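import Groth.Agent.ToposFinLib.Coprod
import Mathlib.CategoryTheory.Sites.LocallyInjective
import Mathlib.CategoryTheory.Limits.Preserves.Shapes.Pullbacks
import Mathlib.CategoryTheory.Sites.Pullback
import Mathlib.CategoryTheory.Limits.Yoneda

/-!
# Sheaves associated to representable presheaves
-/

set_option autoImplicit false

universe u w

open CategoryTheory CategoryTheory.Limits Opposite

namespace Groth.Agent.ToposFinLib

variable {C : Type u} [SmallCategory C] {J : GrothendieckTopology C}

local notation "IsQC" => ToposFin.IsQC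

variable (J) in
/-- The functor `X ↦ eps X`. -/
noncomputable abbrev epsF : C ⥤ ToposFin.Sh J := yoneda ⋙ presheafToSheaf J (Type u)

/-- Morphisms out of the sheaf associated to a representable presheaf are sections. -/
noncomputable def epsHom (X : C) (Z : ToposFin.Sh J) : (ToposFin.eps J X ⟶ Z) ≃ Z.obj.obj (op X) :=
  ((sheafificationAdjunction J (Type u)).homEquiv _ _).trans yonedaEquiv

/-- The universal section. -/
noncomputable def epsη (X : C) : (ToposFin.eps J X).obj.obj (op X) := epsHom X _ (𝟙 _)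

lemma epsHom_apply {X : C} {Z : ToposFin.Sh J} (s : ToposFin.eps J X ⟶ Z) :
    epsHom X Z s = s.hom.app (op X) ((toSheafify J (yoneda.obj X)).app (op X) (𝟙 X)) := by
  simp [epsHom, yonedaEquiv_apply]
  rfl

lemma epsHom_comp {X : C} {Z Z' : ToposFin.Sh J} (s : ToposFin.eps J X ⟶ Z) (t : Z ⟶ Z') :
    epsHom X Z' (s ≫ t) = t.hom.app (op X) (epsHom X Z s) := by
  rw [epsHom_apply, epsHom_apply]
  rfl

lemma epsHom_map_comp {X V : C} {Z : ToposFin.Sh J} (f : V ⟶ X) (s : ToposFin.eps J X ⟶ Z) :
    epsHom V Z ((epsF J).map f ≫ s) = Z.obj.map f.op (epsHom X Z s) := by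
  show yonedaEquiv ((sheafificationAdjunction J (Type u)).homEquiv _ _ ((presheafToSheaf J _).map (yoneda.map f) ≫ s)) = _
  rw [Adjunction.homEquiv_naturality_left]
  exact (yonedaEquiv_naturality _ f).symm

lemma toSheafify_app_apply {X V : C} (h : V ⟶ X) :
    (toSheafify J (yoneda.obj X)).app (op V) h = epsHom V (ToposFin.eps J X) ((epsF J).map h) := by
  rw [← Category.comp_id ((epsF J).map h), epsHom_map_comp, epsHom_apply]
  show _ = (ToposFin.eps J X).obj.map h.op ((toSheafify J (yoneda.obj X)).app (op X) (𝟙 X))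
  refine Eq.trans ?_ (NatTrans.naturality_apply (toSheafify J (yoneda.obj X)) h.op (𝟙 X))
  simp

/-- Morphisms between associated sheaves of representables are locally representable. -/
lemma exists_cover_representable {X V : C} (s : ToposFin.eps J V ⟶ ToposFin.eps J X) :
    ∃ S ∈ J V, ∀ ⦃W : C⦄ (f : W ⟶ V), S f → ∃ g : W ⟶ X, (epsF J).map f ≫ s = (epsF J).map g := by
  refine ⟨_, Presheaf.imageSieve_mem J (toSheafify J (yoneda.obj X)) (epsHom V _ s), fun W f ⟨g, hg⟩ => ⟨g, ?_⟩⟩
  apply (epsHom W _).injective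
  rw [epsHom_map_comp, ← hg]
  exact toSheafify_app_apply g

lemma efam_eps_iff {X : C} {ι : Type w} (V : ι → C) (g : ∀ i, V i ⟶ X) :
    EFam (fun i => (epsF J).map (g i)) ↔ Sieve.ofArrows V g ∈ J X := by
  constructor
  · intro h
    have h' := (efam_iff_famSieve _).1 h (op X) (epsη X)
    refine J.transitive h' _ fun W f hf => ?_
    obtain ⟨i, y, hy⟩ := hf
    refine J.transitive (Presheaf.imageSieve_mem J (toSheafify J (yoneda.obj (V i))) y) _ fun W' f' ⟨h₁, hh⟩ => ?_
    let a : W' ⟶ X := f' ≫ f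
    let b : W' ⟶ X := h₁ ≫ g i
    have e : (toSheafify J (yoneda.obj X)).app (op W') a = (toSheafify J (yoneda.obj X)).app (op W') b := by
      have ea : (toSheafify J (yoneda.obj X)).app (op W') a =
          (ToposFin.eps J X).obj.map f'.op ((ToposFin.eps J X).obj.map f.op (epsη X)) := by
        rw [toSheafify_app_apply, ← Category.comp_id ((epsF J).map a), epsHom_map_comp, op_comp, Functor.map_comp_apply]
        rfl
      have eb : (toSheafify J (yoneda.obj X)).app (op W') b =
          ((epsF J).map (g i)).hom.app (op W') ((toSheafify J (yoneda.obj (V i))).app (op W') h₁) := by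
        rw [toSheafify_app_apply, toSheafify_app_apply, Functor.map_comp, epsHom_comp]
        rfl
      rw [ea, eb, hh]
      exact (congrArg _ hy.symm).trans (NatTrans.naturality_apply ((epsF J).map (g i)).hom f'.op y).symm
    refine J.superset_covering ?_ (Presheaf.equalizerSieve_mem J (toSheafify J (yoneda.obj X)) a b e)
    intro W'' k hk
    change k ≫ a = k ≫ b at hk
    show Sieve.ofArrows V g ((k ≫ f') ≫ f)
    rw [Category.assoc]
    exact (Sieve.mem_ofArrows_iff _ _ _).2 ⟨i, k ≫ h₁, hk.trans (Category.assoc _ _ _).symm⟩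
  · intro h Z a b hab
    apply (epsHom X Z).injective
    refine ((isSheaf_iff_isSheaf_of_type J Z.obj).1 Z.property _ h).isSeparatedFor.ext ?_
    intro W f hf
    obtain ⟨i, k, rfl⟩ := (Sieve.mem_ofArrows_iff _ _ _).1 hf
    have := congrArg (epsHom (V i) Z) (hab i)
    rw [epsHom_map_comp, epsHom_map_comp] at this
    rw [op_comp, Functor.map_comp_apply, Functor.map_comp_apply, this]

lemma isQC_eps_iff (X : C) : IsQC (ToposFin.eps J X) ↔ ToposFin.IsQCSite J X := by
  constructor
  · intro h S hS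
    let ι := Σ V : C, { f : V ⟶ X // S f }
    have hπ : EFam (fun q : ι => (epsF J).map q.2.1) :=
      (efam_eps_iff (J := J) (fun q : ι => q.1) (fun q => q.2.1)).2
        (J.superset_covering (fun V f hf => ⟨V, 𝟙 V, f, Presieve.ofArrows.mk (⟨V, f, hf⟩ : ι), Category.id_comp f⟩) hS)
    obtain ⟨n, e, he⟩ := exists_fin_subfamily h hπ
    exact ⟨n, fun k => (e k).1, fun k => (e k).2.1, fun k => (e k).2.2, (efam_eps_iff _ _).1 he⟩
  · intro h
    rw [isQC_iff]
    intro ι F π hπ
    obtain ⟨n, V, g, hg, hcov⟩ := h _ ((efam_iff_famSieve π).1 hπ (op X) (epsη X))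
    choose i y hy using hg
    classical
    refine ⟨Finset.univ.image i, ((efam_eps_iff (J := J) V g).2 hcov).of_factor fun k =>
      ⟨⟨i k, Finset.mem_image_of_mem _ (Finset.mem_univ k)⟩, (epsHom (V k) _).symm (y k), ?_⟩⟩
    apply (epsHom (V k) _).injective
    rw [epsHom_comp, Equiv.apply_symm_apply, ← Category.comp_id ((epsF J).map (g k)), epsHom_map_comp]
    exact hy k

lemma gen_eps : Gen (J := J) fun K => ∃ X, K = ToposFin.eps J X := by
  intro Z
  refine ⟨Σ V : C, Z.obj.obj (op V), _, fun q => (epsHom q.1 Z).symm q.2, fun q => ⟨q.1, rfl⟩, fun Z' a b hab => ?_⟩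
  ext U x
  have := congrArg (epsHom U.unop Z') (hab ⟨U.unop, x⟩)
  rwa [epsHom_comp, epsHom_comp, Equiv.apply_symm_apply] at this

section Site

variable [HasPullbacks C] (hC : ∀ X : C, ToposFin.IsQCSite J X)

omit [HasPullbacks C] in
include hC in
lemma isQC_eps (X : C) : IsQC (ToposFin.eps J X) := (isQC_eps_iff X).2 (hC X)

omit [HasPullbacks C] in
include hC in
lemma gen_qc_eps : Gen (J := J) ToposFin.IsQC :=
  gen_eps.mono fun _ ⟨X, h⟩ => h ▸ isQC_eps hC X

omit [HasPullbacks C] in
include hC in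
lemma exists_representable_cover {X V : C} (s : ToposFin.eps J V ⟶ ToposFin.eps J X) :
    ∃ (n : ℕ) (W : Fin n → C) (f : ∀ k, W k ⟶ V) (g : ∀ k, W k ⟶ X),
      EFam (fun k => (epsF J).map (f k)) ∧ ∀ k, (epsF J).map (f k) ≫ s = (epsF J).map (g k) := by
  obtain ⟨S, hS, h⟩ := exists_cover_representable s
  obtain ⟨n, W, f, hf, hcov⟩ := hC V S hS
  choose g hg using fun k => h (f k) (hf k)
  exact ⟨n, W, f, g, (efam_eps_iff _ _).2 hcov, hg⟩

include hC in
lemma isCoherent_eps (X : C) : ToposFin.IsCoherent (ToposFin.eps J X) := by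
  refine ⟨isQC_eps hC X, isQS_of_gen gen_eps ?_⟩
  rintro _ _ ⟨V, rfl⟩ ⟨W, rfl⟩ a b
  obtain ⟨n, V', f, g, hf, hfg⟩ := exists_representable_cover hC a
  obtain ⟨m, W', f', g', hf', hfg'⟩ := exists_representable_cover hC b
  refine isQC_of_efam (efam_pullback_map₂ hf hf' a b) fun q => ?_
  refine isQC_of_iso ?_ (isQC_eps hC (pullback (g q.1) (g' q.2)))
  exact ((IsPullback.of_hasPullback (g q.1) (g' q.2)).map (epsF J)).isoPullback ≪≫
    pullback.congrHom (hfg q.1).symm (hfg' q.2).symm

include hC in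
lemma isQS_pullback_eps {X V W : C} (a : ToposFin.eps J V ⟶ ToposFin.eps J X) (b : ToposFin.eps J W ⟶ ToposFin.eps J X) :
    ToposFin.IsQS (pullback a b) := by
  obtain ⟨n, V', f, g, hf, hfg⟩ := exists_representable_cover hC a
  obtain ⟨m, W', f', g', hf', hfg'⟩ := exists_representable_cover hC b
  refine isQS_of_cover (gen_qc_eps hC) (efam_pullback_map₂ hf hf' a b) (fun q => ?_) fun q => ?_
  · exact isQS_of_mono (((IsPullback.of_hasPullback (g q.1) (g' q.2)).map (epsF J)).isoPullback ≪≫
      pullback.congrHom (hfg q.1).symm (hfg' q.2).symm).inv (isCoherent_eps hC _).2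
  · exact MorphismProperty.pullbackMap (P := qc) (f := (epsF J).map (f q.1) ≫ a) (g := (epsF J).map (f' q.2) ≫ b)
      (f' := a) (g' := b) (qc_of_isQS _ (isQC_eps hC _) (isCoherent_eps hC _).2)
      (qc_of_isQS _ (isQC_eps hC _) (isCoherent_eps hC _).2) rfl rfl

include hC in
lemma qs_of_isQS_to_eps {X : C} {G : ToposFin.Sh J} (g : G ⟶ ToposFin.eps J X) (hG : ToposFin.IsQS G) : qs g := by
  obtain ⟨ι, F, π, hF, hπ⟩ := gen_eps G
  choose V hV using hF
  refine qs_of_source_cover (gen_qc_eps hC) g hπ (fun i => hV i ▸ isQC_eps hC (V i)) (fun i j => ?_) hG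
  refine isQS_of_mono (pullback.map (π i ≫ g) (π j ≫ g) (eqToHom (hV i).symm ≫ π i ≫ g) (eqToHom (hV j).symm ≫ π j ≫ g)
    (eqToHom (hV i)) (eqToHom (hV j)) (𝟙 _) (by simp) (by simp)) (isQS_pullback_eps hC _ _)

end Site

/-- The inverse image of the sheaf associated to a representable presheaf. -/
noncomputable def sheafPullbackEpsIso {D : Type u} [SmallCategory D] (K : GrothendieckTopology D) (G : C ⥤ D)
    [G.IsContinuous J K] (X : C) :
    (G.sheafPullback (Type u) J K).obj (ToposFin.eps J X) ≅ ToposFin.eps K (G.obj X) :=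
  Functor.CorepresentableBy.uniqueUpToIso
    (F := sheafToPresheaf K (Type u) ⋙ (evaluation Dᵒᵖ (Type u)).obj (op (G.obj X)))
    { homEquiv := fun {Z} => ((G.sheafAdjunctionContinuous (Type u) J K).homEquiv _ Z).trans (epsHom X _)
      homEquiv_comp := fun {Z Z'} g f => by
        simp only [Equiv.trans_apply]
        rw [Adjunction.homEquiv_naturality_right]
        exact epsHom_comp _ _ }
    { homEquiv := fun {Z} => epsHom (G.obj X) Z
      homEquiv_comp := fun {Z Z'} g f => epsHom_comp f g }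

end Groth.Agent.ToposFinLib
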