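import Groth.Agent.ToposFinLib.Filt
import Mathlib.CategoryTheory.EffectiveEpi.Basic
import Mathlib.CategoryTheory.Limits.Shapes.Equalizers

/-!
# Objects as filtered colimits of finitely presented pieces
-/

set_option autoImplicit false

universe u w

open CategoryTheory CategoryTheory.Limits Opposite

namespace Groth.Agent.ToposFinLib

variable {C : Type u} [SmallCategory C] {J : GrothendieckTopology C}

local notation "IsQC" => ToposFin.IsQC

/-- A presentation of `X` by generators and relations lying in `P`. -/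
structure Pres (P : ToposFin.Sh J → Prop) (X : ToposFin.Sh J) where
  ι : Type u
  R : Type u
  G : ι → ToposFin.Sh J
  T : R → ToposFin.Sh J
  hG : ∀ i, P (G i)
  hT : ∀ r, P (T r)
  π : ∀ i, G i ⟶ X
  e₁ : R → ι
  e₂ : R → ι
  a : ∀ r, T r ⟶ G (e₁ r)
  b : ∀ r, T r ⟶ G (e₂ r)
  w : ∀ r, a r ≫ π (e₁ r) = b r ≫ π (e₂ r)
  efam : EFam π
  desc : ∀ (Z : ToposFin.Sh J) (t : ∀ i, G i ⟶ Z), (∀ r, a r ≫ t (e₁ r) = b r ≫ t (e₂ r)) →
    ∃ s : X ⟶ Z, ∀ i, π i ≫ s = t i

lemma nonempty_pres {P : ToposFin.Sh J → Prop} (hG : Gen P) (X : ToposFin.Sh J) : Nonempty (Pres P X) := by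
  obtain ⟨ι, G, π, hGP, hπ⟩ := hG X
  choose κ T ρ hTP hρ using fun q : ι × ι => hG (pullback (π q.1) (π q.2))
  refine ⟨⟨ι, Σ q, κ q, G, fun r => T r.1 r.2, hGP, fun r => hTP r.1 r.2, π, fun r => r.1.1, fun r => r.1.2,
    fun r => ρ r.1 r.2 ≫ pullback.fst _ _, fun r => ρ r.1 r.2 ≫ pullback.snd _ _, fun r => ?_, hπ, fun Z t h => ?_⟩⟩
  · simp only [Category.assoc, pullback.condition]
  · exact exists_desc hπ t fun i j => hρ (i, j) _ _ _ fun k => by simpa only [Category.assoc] using h ⟨(i, j), k⟩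

namespace Pres

variable {P : ToposFin.Sh J → Prop} {X : ToposFin.Sh J} (p : Pres P X)

/-- Finite sets of generators and relations between them. -/
abbrev Idx : Type u := { q : Finset p.ι × Finset p.R // ∀ r ∈ q.2, p.e₁ r ∈ q.1 ∧ p.e₂ r ∈ q.1 }

instance : Nonempty p.Idx := ⟨⟨(∅, ∅), fun r hr => absurd hr (Finset.notMem_empty r)⟩⟩

instance : IsDirectedOrder p.Idx := by
  classical
  exact ⟨fun a b => ⟨⟨(a.1.1 ∪ b.1.1, a.1.2 ∪ b.1.2), fun r hr => (Finset.mem_union.1 hr).elim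
    (fun h => ⟨Finset.mem_union_left _ (a.2 r h).1, Finset.mem_union_left _ (a.2 r h).2⟩)
    (fun h => ⟨Finset.mem_union_right _ (b.2 r h).1, Finset.mem_union_right _ (b.2 r h).2⟩)⟩,
    ⟨Finset.subset_union_left, Finset.subset_union_left⟩, ⟨Finset.subset_union_right, Finset.subset_union_right⟩⟩⟩

variable (q : p.Idx)

noncomputable abbrev src : ToposFin.Sh J := ∐ fun i : (q.1.1 : Set p.ι) => p.G i.1

noncomputable abbrev rel : ToposFin.Sh J := ∐ fun r : (q.1.2 : Set p.R) => p.T r.1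

noncomputable abbrev relFst : p.rel q ⟶ p.src q :=
  Sigma.desc fun r => p.a r.1 ≫ Sigma.ι (fun i : (q.1.1 : Set p.ι) => p.G i.1) ⟨p.e₁ r.1, (q.2 r.1 r.2).1⟩

noncomputable abbrev relSnd : p.rel q ⟶ p.src q :=
  Sigma.desc fun r => p.b r.1 ≫ Sigma.ι (fun i : (q.1.1 : Set p.ι) => p.G i.1) ⟨p.e₂ r.1, (q.2 r.1 r.2).2⟩

noncomputable def gen (i : (q.1.1 : Set p.ι)) : p.G i.1 ⟶ coequalizer (p.relFst q) (p.relSnd q) :=
  Sigma.ι (fun i : (q.1.1 : Set p.ι) => p.G i.1) i ≫ coequalizer.π _ _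

lemma gen_rel (r : (q.1.2 : Set p.R)) :
    p.a r.1 ≫ p.gen q ⟨p.e₁ r.1, (q.2 r.1 r.2).1⟩ = p.b r.1 ≫ p.gen q ⟨p.e₂ r.1, (q.2 r.1 r.2).2⟩ := by
  have := congrArg (fun m => Sigma.ι (fun r : (q.1.2 : Set p.R) => p.T r.1) r ≫ m)
    (coequalizer.condition (p.relFst q) (p.relSnd q))
  simpa [gen, relFst, relSnd] using this

variable {q} in
lemma hom_ext {Z : ToposFin.Sh J} {f g : coequalizer (p.relFst q) (p.relSnd q) ⟶ Z}
    (h : ∀ i, p.gen q i ≫ f = p.gen q i ≫ g) : f = g :=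
  coequalizer.hom_ext (Sigma.hom_ext _ _ fun i => by simpa [gen] using h i)

lemma exists_hom {Z : ToposFin.Sh J} (t : ∀ i : (q.1.1 : Set p.ι), p.G i.1 ⟶ Z)
    (h : ∀ r : (q.1.2 : Set p.R), p.a r.1 ≫ t ⟨p.e₁ r.1, (q.2 r.1 r.2).1⟩ = p.b r.1 ≫ t ⟨p.e₂ r.1, (q.2 r.1 r.2).2⟩) :
    ∃ f : coequalizer (p.relFst q) (p.relSnd q) ⟶ Z, ∀ i, p.gen q i ≫ f = t i :=
  ⟨coequalizer.desc (Sigma.desc t) (Sigma.hom_ext _ _ fun r => by simpa [relFst, relSnd] using h r),
    fun i => by simp [gen, coequalizer.π_desc]⟩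

lemma exists_map {q q' : p.Idx} (f : q ≤ q') :
    ∃ m : coequalizer (p.relFst q) (p.relSnd q) ⟶ coequalizer (p.relFst q') (p.relSnd q'),
      ∀ i, p.gen q i ≫ m = p.gen q' ⟨i.1, f.1 i.2⟩ :=
  p.exists_hom q (fun i => p.gen q' ⟨i.1, f.1 i.2⟩) fun r => p.gen_rel q' ⟨r.1, f.2 r.2⟩

noncomputable def mapAux {q q' : p.Idx} (f : q ≤ q') :
    coequalizer (p.relFst q) (p.relSnd q) ⟶ coequalizer (p.relFst q') (p.relSnd q') :=
  (p.exists_map f).choose

lemma gen_mapAux {q q' : p.Idx} (f : q ≤ q') (i : (q.1.1 : Set p.ι)) :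
    p.gen q i ≫ p.mapAux f = p.gen q' ⟨i.1, f.1 i.2⟩ :=
  (p.exists_map f).choose_spec i

/-- The diagram of finitely presented pieces. -/
noncomputable def diagram : p.Idx ⥤ ToposFin.Sh J where
  obj q := coequalizer (p.relFst q) (p.relSnd q)
  map f := p.mapAux f.le
  map_id q := p.hom_ext fun i => by
    rw [p.gen_mapAux, Category.comp_id]
  map_comp {q q' q''} f g := p.hom_ext fun i => by
    rw [p.gen_mapAux, ← Category.assoc, p.gen_mapAux, p.gen_mapAux]

lemma gen_map {q q' : p.Idx} (f : q ⟶ q') (i : (q.1.1 : Set p.ι)) :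
    p.gen q i ≫ p.diagram.map f = p.gen q' ⟨i.1, f.le.1 i.2⟩ :=
  p.gen_mapAux f.le i

lemma nonempty_iso_colimit : Nonempty (colimit p.diagram ≅ X) := by
  classical
  choose v hv using fun q => p.exists_hom q (fun i => p.π i.1) fun r => p.w r.1
  let c : Cocone p.diagram :=
    { pt := X
      ι := { app := v
             naturality := fun q q' f => p.hom_ext fun i => by
               show p.gen q i ≫ p.mapAux f.le ≫ v q' = p.gen q i ≫ v q ≫ 𝟙 X
               rw [← Category.assoc, p.gen_mapAux, hv, Category.comp_id, hv] } }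
  suffices Nonempty (IsColimit c) from ⟨(colimit.isColimit _).coconePointUniqueUpToIso this.some⟩
  have hd : ∀ s : Cocone p.diagram, ∃ d : X ⟶ s.pt, ∀ q, v q ≫ d = s.ι.app q := by
    intro s
    let q₁ : p.ι → p.Idx := fun i => ⟨({i}, ∅), fun r hr => absurd hr (Finset.notMem_empty r)⟩
    let t : ∀ i, p.G i ⟶ s.pt := fun i => p.gen (q₁ i) ⟨i, Finset.mem_singleton_self i⟩ ≫ s.ι.app (q₁ i)
    have ht : ∀ (q : p.Idx) (i : (q.1.1 : Set p.ι)), p.gen q i ≫ s.ι.app q = t i.1 := fun q i => by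
      have hle : q₁ i.1 ≤ q := ⟨Finset.singleton_subset_iff.2 i.2, Finset.empty_subset _⟩
      dsimp only [t]
      rw [← s.w (homOfLE hle)]
      exact ((Category.assoc _ _ _).symm.trans (congrArg (· ≫ s.ι.app q) (p.gen_map (homOfLE hle) ⟨i.1, Finset.mem_singleton_self i.1⟩))).symm
    obtain ⟨d, hd⟩ := p.desc s.pt t fun r => by
      let q : p.Idx := ⟨({p.e₁ r, p.e₂ r}, {r}), fun r' hr' => by
        rw [Finset.mem_singleton.1 hr']; simp⟩
      have h₁ := ht q ⟨p.e₁ r, by simp [q]⟩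
      have h₂ := ht q ⟨p.e₂ r, by simp [q]⟩
      rw [← h₁, ← h₂]
      exact (Category.assoc _ _ _).symm.trans ((congrArg (· ≫ s.ι.app q)
        (p.gen_rel q ⟨r, Finset.mem_singleton_self r⟩)).trans (Category.assoc _ _ _))
    exact ⟨d, fun q => p.hom_ext fun i => by rw [← Category.assoc, hv, hd, ht]⟩
  choose d hd using hd
  refine ⟨{ desc := d, fac := fun s q => hd s q, uniq := fun s m hm => p.efam _ _ _ fun i => ?_ }⟩
  let q : p.Idx := ⟨({i}, ∅), fun r hr => absurd hr (Finset.notMem_empty r)⟩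
  have hi := hv q ⟨i, Finset.mem_singleton_self i⟩
  rw [← hi, Category.assoc, Category.assoc, hd]
  exact congrArg _ (hm q)

lemma exists_retract (hX : ToposFin.IsFP X) :
    ∃ (q : p.Idx) (i : X ⟶ coequalizer (p.relFst q) (p.relSnd q)) (r : coequalizer (p.relFst q) (p.relSnd q) ⟶ X),
      i ≫ r = 𝟙 X := by
  obtain ⟨e⟩ := p.nonempty_iso_colimit
  obtain ⟨z, hz⟩ := (hX p.Idx p.diagram).2 e.inv
  obtain ⟨q, i, rfl⟩ := Types.jointly_surjective' z
  rw [post_ι] at hz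
  exact ⟨q, i, colimit.ι p.diagram q ≫ e.hom,
    (Category.assoc _ _ _).symm.trans ((congrArg (· ≫ e.hom) hz).trans e.inv_hom_id)⟩

end Pres

/-- A retract is the coequalizer of the associated idempotent and the identity. -/
noncomputable def isoCoequalizerOfRetract {X Y : ToposFin.Sh J} (i : X ⟶ Y) (r : Y ⟶ X) (h : i ≫ r = 𝟙 X) :
    X ≅ coequalizer (r ≫ i) (𝟙 Y) where
  hom := i ≫ coequalizer.π _ _
  inv := coequalizer.desc r (by rw [Category.assoc, h, Category.comp_id, Category.id_comp])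
  hom_inv_id := by rw [Category.assoc, coequalizer.π_desc, h]
  inv_hom_id := coequalizer.hom_ext (by
    rw [coequalizer.π_desc_assoc, Category.comp_id, ← Category.assoc, coequalizer.condition, Category.id_comp])

lemma isQC_of_isFP {X : ToposFin.Sh J} (hX : ToposFin.IsFP X) : IsQC X :=
  isQC_of_post_injective X fun I _ _ D => (hX I D).1

lemma isFP_of_isCoherent (hE : Gen (J := J) ToposFin.IsQC) {X : ToposFin.Sh J} (hX : ToposFin.IsCoherent X) :
    ToposFin.IsFP X := fun _ _ _ _ => ⟨post_injective hX.1, post_surjective hE hX⟩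

lemma isFP_of_retract {X X₀ X₁ : ToposFin.Sh J} (hE : Gen (J := J) ToposFin.IsQC) (h₀ : ToposFin.IsCoherent X₀)
    (h₁ : IsQC X₁) (a b : X₁ ⟶ X₀) (i : X ⟶ coequalizer a b) (r : coequalizer a b ⟶ X) (h : i ≫ r = 𝟙 X) :
    ToposFin.IsFP X := by
  intro I _ _ D
  have : Epi r := epi_of_epi_fac h
  refine ⟨post_injective (isQC_of_epi r (isQC_of_epi (coequalizer.π a b) h₀.1)), fun f => ?_⟩
  obtain ⟨z, hz⟩ := post_surjective hE h₀ (coequalizer.π a b ≫ r ≫ f)
  obtain ⟨k, g, rfl⟩ := Types.jointly_surjective' z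
  rw [post_ι] at hz
  obtain ⟨k', m, hm⟩ := exists_eq_stage (D := D) h₁ (a ≫ g) (b ≫ g)
    (by simp only [Category.assoc, hz]; rw [coequalizer.condition_assoc])
  refine ⟨colimit.ι (D ⋙ coyoneda.obj (op X)) k' (i ≫ coequalizer.desc (g ≫ D.map m) (by simpa only [Category.assoc] using hm)), ?_⟩
  rw [post_ι]
  have : coequalizer.desc (g ≫ D.map m) (by simpa only [Category.assoc] using hm) ≫ colimit.ι D k' = r ≫ f :=
    coequalizer.hom_ext (by rw [coequalizer.π_desc_assoc, Category.assoc, colimit.w, hz])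
  rw [Category.assoc, this, ← Category.assoc, h, Category.id_comp]

lemma isCoherent_sigma {ι : Type u} [Finite ι] (F : ι → ToposFin.Sh J) (hF : ∀ i, ToposFin.IsCoherent (F i)) :
    ToposFin.IsCoherent (∐ F) := by
  have h := DisjCover.of_isColimit (Cofan.mk _ (Sigma.ι F)) (coproductIsCoproduct F)
  refine ⟨h.isQC_iff.2 ⟨fun i => (hF i).1, Set.toFinite _⟩, isQS_iff.2 fun A a hA => ?_⟩
  exact qc_of_cover h.refinable (fun i => IsPullback.of_hasPullback a _)
    fun i => qc_of_isQS _ ((h.pullback_fst a).isQC_component hA i) (hF i).2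

end Groth.Agent.ToposFinLib
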