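import Groth.Agent.ToposFinLib.Eps
import Mathlib.CategoryTheory.Limits.Types.Filtered
import Mathlib.CategoryTheory.Limits.FunctorCategory.Basic
import Mathlib.CategoryTheory.Limits.Preserves.Basic
import Mathlib.CategoryTheory.Limits.Shapes.Pullback.HasPullback
import Mathlib.Order.Lattice

/-!
# Morphisms from quasi-compact objects into filtered colimits
-/

set_option autoImplicit false

universe u w

open CategoryTheory CategoryTheory.Limits Opposite

namespace Groth.Agent.ToposFinLib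

variable {C : Type u} [SmallCategory C] {J : GrothendieckTopology C} {I : Type u} [SmallCategory I]
  {D : I ⥤ ToposFin.Sh J}

local notation "IsQC" => ToposFin.IsQC

lemma hom_app_congr {F G : ToposFin.Sh J} {φ ψ : F ⟶ G} (h : φ = ψ) (U : Cᵒᵖ) (z : F.obj.obj U) :
    φ.hom.app U z = ψ.hom.app U z := by rw [h]

/-- Sections of a filtered colimit of sheaves which agree, agree locally at some stage. -/
lemma exists_cover_eq [IsFiltered I] {i : I} {U : Cᵒᵖ} (z₁ z₂ : (D.obj i).obj.obj U)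
    (h : (colimit.ι D i).hom.app U z₁ = (colimit.ι D i).hom.app U z₂) :
    ∃ S ∈ J U.unop, ∀ ⦃W : C⦄ (g : W ⟶ U.unop), S g → ∃ (k : I) (f : i ⟶ k),
      (D.map f).hom.app (op W) ((D.obj i).obj.map g.op z₁) = (D.map f).hom.app (op W) ((D.obj i).obj.map g.op z₂) := by
  let E := colimit.cocone (D ⋙ sheafToPresheaf J (Type u))
  let hc := Sheaf.isColimitSheafifyCocone E (colimit.isColimit _)
  have h' : (toSheafify J E.pt).app U ((E.ι.app i).app U z₁) = (toSheafify J E.pt).app U ((E.ι.app i).app U z₂) := by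
    have e : (Sheaf.sheafifyCocone E).ι.app i = colimit.ι D i ≫ (colimit.isoColimitCocone ⟨_, hc⟩).hom :=
      (colimit.isoColimitCocone_ι_hom ⟨_, hc⟩ i).symm
    have := congrArg (fun z => ((colimit.isoColimitCocone ⟨_, hc⟩).hom).hom.app U z) h
    have e₁ : ∀ z, (toSheafify J E.pt).app U ((E.ι.app i).app U z) =
        ((colimit.isoColimitCocone ⟨_, hc⟩).hom).hom.app U ((colimit.ι D i).hom.app U z) := fun z => by
      have := hom_app_congr e U z
      rw [Sheaf.sheafifyCocone_ι_app_val] at this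
      exact this
    rw [e₁, e₁]
    exact this
  refine ⟨_, Presheaf.equalizerSieve_mem J (toSheafify J E.pt) _ _ h', fun W g hg => ?_⟩
  have hcol := isColimitOfPreserves ((evaluation Cᵒᵖ (Type u)).obj (op W)) (colimit.isColimit (D ⋙ sheafToPresheaf J (Type u)))
  apply (Types.FilteredColimit.isColimit_eq_iff' hcol _ _).1
  refine (NatTrans.naturality_apply (E.ι.app i) g.op z₁).trans (Eq.trans ?_ (NatTrans.naturality_apply (E.ι.app i) g.op z₂).symm)
  exact hg

/-- Two morphisms from a quasi-compact object which agree in a filtered colimit agree at some stage. -/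
lemma exists_eq_stage [IsFiltered I] {X : ToposFin.Sh J} (hX : IsQC X) {i : I} (a b : X ⟶ D.obj i)
    (h : a ≫ colimit.ι D i = b ≫ colimit.ι D i) : ∃ (k : I) (f : i ⟶ k), a ≫ D.map f = b ≫ D.map f := by
  let κ := Σ (W : C) (k : I) (f : i ⟶ k), { x : X.obj.obj (op W) // (a ≫ D.map f).hom.app (op W) x = (b ≫ D.map f).hom.app (op W) x }
  let π : ∀ q : κ, ToposFin.eps J q.1 ⟶ X := fun q => (epsHom q.1 X).symm q.2.2.2.1
  have hπ : EFam π := by
    rw [efam_iff_famSieve]
    intro U x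
    obtain ⟨S, hS, hS'⟩ := exists_cover_eq (a.hom.app U x) (b.hom.app U x)
      (hom_app_congr h U x)
    refine J.superset_covering ?_ hS
    intro W g hg
    obtain ⟨k, f, hf⟩ := hS' g hg
    rw [← NatTrans.naturality_apply, ← NatTrans.naturality_apply] at hf
    refine ⟨⟨W, k, f, X.obj.map g.op x, hf⟩, epsη W, ?_⟩
    have := epsHom_comp (𝟙 _) (π ⟨W, k, f, X.obj.map g.op x, hf⟩)
    rw [Category.id_comp] at this
    exact this.symm.trans (Equiv.apply_symm_apply _ _)
  obtain ⟨n, e, he⟩ := exists_fin_subfamily hX hπ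
  suffices ∀ m (hm : m ≤ n), ∃ (k : I) (f : i ⟶ k), ∀ l : Fin n, l.1 < m → π (e l) ≫ a ≫ D.map f = π (e l) ≫ b ≫ D.map f by
    obtain ⟨k, f, hkf⟩ := this n le_rfl
    exact ⟨k, f, he _ _ _ fun l => hkf l l.2⟩
  intro m hm
  induction m with
  | zero => exact ⟨i, 𝟙 i, fun l hl => absurd hl (Nat.not_lt_zero _)⟩
  | succ m ih =>
    obtain ⟨k, f, hkf⟩ := ih (by omega)
    let q := e ⟨m, by omega⟩
    obtain ⟨k', p, p', hp⟩ := IsFiltered.span f q.2.2.1
    refine ⟨k', f ≫ p, fun l hl => ?_⟩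
    rcases Nat.lt_succ_iff_lt_or_eq.1 hl with hl | hl
    · rw [D.map_comp]
      simp only [← Category.assoc]
      exact congrArg (· ≫ D.map p) (by simpa only [Category.assoc] using hkf l hl)
    · rw [show l = ⟨m, by omega⟩ from Fin.ext hl]
      have hq : π q ≫ a ≫ D.map q.2.2.1 = π q ≫ b ≫ D.map q.2.2.1 := by
        apply (epsHom q.1 _).injective
        rw [epsHom_comp (π q), epsHom_comp (π q), show epsHom q.1 X (π q) = q.2.2.2.1 from Equiv.apply_symm_apply _ _]
        exact q.2.2.2.2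
      rw [hp, D.map_comp]
      exact (by simp only [Category.assoc]; rfl : _ = (π q ≫ a ≫ D.map q.2.2.1) ≫ D.map p').trans
        ((congrArg (· ≫ D.map p') hq).trans (by simp only [Category.assoc]; rfl))

/-- The same, for finitely many pairs simultaneously. -/
lemma exists_eq_stage_fintype [IsFiltered I] {ι : Type w} [Finite ι] {X : ι → ToposFin.Sh J} (hX : ∀ l, IsQC (X l))
    {i : I} (a b : ∀ l, X l ⟶ D.obj i) (h : ∀ l, a l ≫ colimit.ι D i = b l ≫ colimit.ι D i) :
    ∃ (k : I) (f : i ⟶ k), ∀ l, a l ≫ D.map f = b l ≫ D.map f := by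
  classical
  have := Fintype.ofFinite ι
  suffices ∀ s : Finset ι, ∃ (k : I) (f : i ⟶ k), ∀ l ∈ s, a l ≫ D.map f = b l ≫ D.map f by
    obtain ⟨k, f, hkf⟩ := this Finset.univ
    exact ⟨k, f, fun l => hkf l (Finset.mem_univ l)⟩
  intro s
  induction s using Finset.induction_on with
  | empty => exact ⟨i, 𝟙 i, fun l hl => absurd hl (Finset.notMem_empty l)⟩
  | insert l s _ ih =>
    obtain ⟨k, f, hkf⟩ := ih
    obtain ⟨k', f', hk'⟩ := exists_eq_stage (hX l) (a l ≫ D.map f) (b l ≫ D.map f)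
      (by simp only [Category.assoc, colimit.w, h l])
    refine ⟨k', f ≫ f', fun l' hl' => ?_⟩
    rcases Finset.mem_insert.1 hl' with rfl | hl'
    · simpa [D.map_comp] using hk'
    · rw [D.map_comp, ← Category.assoc, ← Category.assoc, hkf l' hl']

lemma post_ι {X : ToposFin.Sh J} (i : I) (a : X ⟶ D.obj i) :
    colimit.post D (coyoneda.obj (op X)) (colimit.ι (D ⋙ coyoneda.obj (op X)) i a) = a ≫ colimit.ι D i :=
  ConcreteCategory.congr_hom (colimit.ι_post D (coyoneda.obj (op X)) i) a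

lemma post_injective [IsFiltered I] {X : ToposFin.Sh J} (hX : IsQC X) :
    Function.Injective (colimit.post D (coyoneda.obj (op X))) := by
  intro z₁ z₂ h
  obtain ⟨i₁, a, rfl⟩ := Types.jointly_surjective' z₁
  obtain ⟨i₂, b, rfl⟩ := Types.jointly_surjective' z₂
  rw [post_ι, post_ι] at h
  let j := IsFiltered.max i₁ i₂
  obtain ⟨k, f, hf⟩ := exists_eq_stage hX (a ≫ D.map (IsFiltered.leftToMax i₁ i₂)) (b ≫ D.map (IsFiltered.rightToMax i₁ i₂))
    (by simp only [Category.assoc, colimit.w]; exact h)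
  refine (Types.FilteredColimit.colimit_eq_iff _).2 ⟨k, IsFiltered.leftToMax i₁ i₂ ≫ f, IsFiltered.rightToMax i₁ i₂ ≫ f, ?_⟩
  show a ≫ D.map _ = b ≫ D.map _
  rw [D.map_comp, D.map_comp, ← Category.assoc, hf, Category.assoc]

lemma isQC_of_post_injective (X : ToposFin.Sh J)
    (h : ∀ (I : Type u) [SmallCategory I] [IsFiltered I] (D : I ⥤ ToposFin.Sh J),
      Function.Injective (colimit.post D (coyoneda.obj (op X)))) : IsQC X := by
  classical
  rw [isQC_iff]
  intro ι F π hπ
  let A : Finset ι → ToposFin.Sh J := fun s => ∐ fun l : (s : Set ι) => F l.1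
  let p : ∀ s, A s ⟶ X := fun s => Sigma.desc fun l => π l.1
  let inc : ∀ {s t : Finset ι}, s ≤ t → (A s ⟶ A t) := fun {s t} hst =>
    Sigma.desc fun l => Sigma.ι (fun l : (t : Set ι) => F l.1) ⟨l.1, hst l.2⟩
  have hinc : ∀ {s t : Finset ι} (hst : s ≤ t), inc hst ≫ p t = p s := fun hst =>
    Sigma.hom_ext _ _ fun l => by simp [inc, p]
  let T : Finset ι ⥤ ToposFin.Sh J :=
    { obj := fun s => pushout (p s) (p s)
      map := fun {s t} f => pushout.desc (pushout.inl (p t) (p t)) (pushout.inr (p t) (p t))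
        (by rw [← hinc f.le, Category.assoc, Category.assoc, pushout.condition])
      map_id := fun s => by apply pushout.hom_ext <;> simp [pushout.inl_desc, pushout.inr_desc]
      map_comp := fun f g => by apply pushout.hom_ext <;> simp [pushout.inl_desc, pushout.inr_desc, pushout.inl_desc_assoc, pushout.inr_desc_assoc] }
  have e : (pushout.inl (p ∅) (p ∅) : X ⟶ T.obj ∅) ≫ colimit.ι T ∅ = (pushout.inr (p ∅) (p ∅) : X ⟶ T.obj ∅) ≫ colimit.ι T ∅ := by
    refine hπ _ _ _ fun l => ?_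
    have hl : π l = Sigma.ι (fun l' : (({l} : Finset ι) : Set ι) => F l'.1) ⟨l, Finset.mem_singleton_self l⟩ ≫ p {l} := by
      simp [p]
    rw [← colimit.w T (homOfLE (Finset.empty_subset {l}) : (∅ : Finset ι) ⟶ {l})]
    have hL : (pushout.inl (p ∅) (p ∅) : X ⟶ T.obj ∅) ≫ T.map (homOfLE (Finset.empty_subset {l}) : (∅ : Finset ι) ⟶ {l}) =
        pushout.inl (p {l}) (p {l}) := pushout.inl_desc _ _ _
    have hR : (pushout.inr (p ∅) (p ∅) : X ⟶ T.obj ∅) ≫ T.map (homOfLE (Finset.empty_subset {l}) : (∅ : Finset ι) ⟶ {l}) =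
        pushout.inr (p {l}) (p {l}) := pushout.inr_desc _ _ _
    rw [reassoc_of% hL, reassoc_of% hR, hl]
    simp only [Category.assoc]
    exact congrArg _ (pushout.condition_assoc _)
  have e' := h (Finset ι) T (a₁ := colimit.ι (T ⋙ coyoneda.obj (op X)) ∅ (pushout.inl (p ∅) (p ∅)))
    (a₂ := colimit.ι (T ⋙ coyoneda.obj (op X)) ∅ (pushout.inr (p ∅) (p ∅))) (by rw [post_ι, post_ι]; exact e)
  obtain ⟨t, f, g, hfg⟩ := (Types.FilteredColimit.colimit_eq_iff _).1 e'
  refine ⟨t, fun Z a b hab => ?_⟩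
  have ht : p t ≫ a = p t ≫ b := Sigma.hom_ext _ _ fun l => by simpa [p] using hab ⟨l.1, l.2⟩
  have h₁ : (pushout.inl (p ∅) (p ∅) : X ⟶ T.obj ∅) ≫ T.map f = pushout.inl (p t) (p t) := pushout.inl_desc _ _ _
  have h₂ : (pushout.inr (p ∅) (p ∅) : X ⟶ T.obj ∅) ≫ T.map g = pushout.inr (p t) (p t) := pushout.inr_desc _ _ _
  have hfg' : pushout.inl (p t) (p t) = pushout.inr (p t) (p t) := h₁.symm.trans (Eq.trans hfg h₂)
  have := congrArg (· ≫ pushout.desc a b ht) hfg'
  simpa [pushout.inl_desc, pushout.inr_desc] using this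

lemma post_surjective [IsFiltered I] (hE : Gen (J := J) ToposFin.IsQC) {X : ToposFin.Sh J} (hX : ToposFin.IsCoherent X) :
    Function.Surjective (colimit.post D (coyoneda.obj (op X))) := by
  classical
  intro f
  have hι : EFam (colimit.ι D) := fun Z a b h => colimit.hom_ext h
  obtain ⟨n, W, w, hw, hW⟩ := exists_fin_cover hE hX.1 f hι
  choose hWq j l hl using hW
  obtain ⟨k, hk⟩ := IsFiltered.sup_objs_exists (Finset.univ.image j)
  let m : ∀ q, j q ⟶ k := fun q => (hk (Finset.mem_image_of_mem j (Finset.mem_univ q))).some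
  obtain ⟨k', g, hg⟩ := exists_eq_stage_fintype (D := D) (i := k) (fun q : Fin n × Fin n => hX.2 _ _ (w q.1) (w q.2) (hWq q.1) (hWq q.2))
    (fun q => pullback.fst (w q.1) (w q.2) ≫ l q.1 ≫ D.map (m q.1))
    (fun q => pullback.snd (w q.1) (w q.2) ≫ l q.2 ≫ D.map (m q.2))
    (fun q => by simp only [Category.assoc, colimit.w, hl]; exact pullback.condition_assoc _)
  obtain ⟨s, hs⟩ := exists_desc hw (fun q => l q ≫ D.map (m q) ≫ D.map g)
    (fun p q => by simpa only [Category.assoc] using hg (p, q))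
  refine ⟨colimit.ι (D ⋙ coyoneda.obj (op X)) k' s, ?_⟩
  rw [post_ι]
  refine hw _ _ _ fun q => ?_
  rw [← Category.assoc, hs]
  simp only [Category.assoc, colimit.w, hl]

end Groth.Agent.ToposFinLib
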