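import Groth.Agent.ToposFinLib.QC
import Mathlib.CategoryTheory.EffectiveEpi.Basic
import Mathlib.Data.Fintype.EquivFin

/-!
# Generating families, locality on the target, and descent along jointly epimorphic families
-/

set_option autoImplicit false

universe u w w'

open CategoryTheory CategoryTheory.Limits Opposite

namespace Groth.Agent.ToposFinLib

variable {C : Type u} [SmallCategory C] {J : GrothendieckTopology C}

local notation "IsQC" => ToposFin.IsQC

/-- Every object is covered by objects satisfying `P`. -/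
def Gen (P : ToposFin.Sh J → Prop) : Prop :=
  ∀ X : ToposFin.Sh J, ∃ (ι : Type u) (F : ι → ToposFin.Sh J) (π : ∀ i, F i ⟶ X), (∀ i, P (F i)) ∧ EFam π

lemma gen_of_hasQCGenerators (h : ToposFin.HasQCGenerators J) : Gen (J := J) ToposFin.IsQC := fun X => by
  obtain ⟨ι, F, π, hF, hπ⟩ := h X
  exact ⟨ι, F, π, hF, (epi_desc_iff π).1 hπ⟩

lemma gen_of_hasCoherentGenerators (h : ToposFin.HasCoherentGenerators J) : Gen (J := J) ToposFin.IsCoherent :=
  fun X => by
    obtain ⟨ι, F, π, hF, hπ⟩ := h X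
    exact ⟨ι, F, π, hF, (epi_desc_iff π).1 hπ⟩

lemma gen_of_family {α : Type u} {G : α → ToposFin.Sh J}
    (hgen : ∀ X : ToposFin.Sh J, ∃ (ι : Type u) (a : ι → α) (π : ∀ i, G (a i) ⟶ X), Epi (Sigma.desc π)) :
    Gen (fun X => ∃ a, X = G a) := fun X => by
  obtain ⟨ι, a, π, hπ⟩ := hgen X
  exact ⟨ι, fun i => G (a i), π, fun i => ⟨a i, rfl⟩, (epi_desc_iff π).1 hπ⟩

lemma Gen.mono {P Q : ToposFin.Sh J → Prop} (h : Gen P) (hPQ : ∀ X, P X → Q X) : Gen Q := fun X => by
  obtain ⟨ι, F, π, hF, hπ⟩ := h X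
  exact ⟨ι, F, π, fun i => hPQ _ (hF i), hπ⟩

lemma exists_fin_subfamily {X : ToposFin.Sh J} (hX : IsQC X) {ι : Type w} [Small.{u} ι] {F : ι → ToposFin.Sh J}
    {π : ∀ i, F i ⟶ X} (h : EFam π) : ∃ (n : ℕ) (e : Fin n → ι), EFam (fun k => π (e k)) := by
  obtain ⟨s, hs⟩ := exists_finset hX h
  exact ⟨s.card, fun k => (s.equivFin.symm k).1, hs.reindex s.equivFin.symm s.equivFin.symm.surjective⟩

lemma exists_fin_cover {P : ToposFin.Sh J → Prop} (hG : Gen P) {Y : ToposFin.Sh J} (hY : IsQC Y) {X : ToposFin.Sh J}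
    (g : Y ⟶ X) {ι : Type w} [Small.{u} ι] {F : ι → ToposFin.Sh J} {π : ∀ i, F i ⟶ X} (hπ : EFam π) :
    ∃ (n : ℕ) (W : Fin n → ToposFin.Sh J) (w : ∀ k, W k ⟶ Y), EFam w ∧
      ∀ k, P (W k) ∧ ∃ (i : ι) (l : W k ⟶ F i), l ≫ π i = w k ≫ g := by
  choose κ G ρ hP hρ using fun i => hG (pullback g (π i))
  obtain ⟨n, e, he⟩ := exists_fin_subfamily hY ((hπ.pullback_fst g).comp hρ)
  refine ⟨n, _, fun k => ρ (e k).1 (e k).2 ≫ pullback.fst g (π (e k).1), he, fun k => ⟨hP _ _, (e k).1,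
    ρ (e k).1 (e k).2 ≫ pullback.snd g (π (e k).1), ?_⟩⟩
  simp only [Category.assoc, pullback.condition]

lemma exists_fin_cover' {P : ToposFin.Sh J → Prop} (hG : Gen P) {Y : ToposFin.Sh J} (hY : IsQC Y) :
    ∃ (n : ℕ) (W : Fin n → ToposFin.Sh J) (w : ∀ k, W k ⟶ Y), EFam w ∧ ∀ k, P (W k) := by
  obtain ⟨n, W, w, hw, h⟩ := exists_fin_cover hG hY (𝟙 Y) (EFam.of_epi.{u, u} (𝟙 Y))
  exact ⟨n, W, w, hw, fun k => (h k).1⟩

/-- A family such that every quasi-compact object over its target has a finite quasi-compact cover refining it. -/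
def Refinable {ι : Type w} {F : ι → ToposFin.Sh J} {X : ToposFin.Sh J} (π : ∀ i, F i ⟶ X) : Prop :=
  ∀ ⦃Y : ToposFin.Sh J⦄ (g : Y ⟶ X), IsQC Y → ∃ (n : ℕ) (W : Fin n → ToposFin.Sh J) (w : ∀ k, W k ⟶ Y),
    EFam w ∧ ∀ k, IsQC (W k) ∧ ∃ (i : ι) (l : W k ⟶ F i), l ≫ π i = w k ≫ g

variable {ι : Type w} [Small.{u} ι] {F : ι → ToposFin.Sh J} {X : ToposFin.Sh J} {π : ∀ i, F i ⟶ X}

lemma EFam.refinable (hE : Gen (J := J) ToposFin.IsQC) (hπ : EFam π) : Refinable π :=
  fun _ g hY => exists_fin_cover hE hY g hπ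

lemma DisjCover.refinable (hπ : DisjCover π) : Refinable π := fun Y g hY => by
  have h := hπ.pullback_fst g
  obtain ⟨n, e, he⟩ := exists_fin_subfamily hY h.efam
  exact ⟨n, _, _, he, fun k => ⟨h.isQC_component hY _, e k, pullback.snd g (π (e k)), pullback.condition.symm⟩⟩

omit [Small.{u} ι] in
lemma qc_of_cover (hr : Refinable π) {S : ToposFin.Sh J} {f : S ⟶ X} {P : ι → ToposFin.Sh J}
    {p : ∀ i, P i ⟶ S} {q : ∀ i, P i ⟶ F i} (hpb : ∀ i, IsPullback (p i) (q i) f (π i))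
    (h : ∀ i, qc (q i)) : qc f := by
  intro Y g hY
  obtain ⟨n, W, w, hw, hW⟩ := hr g hY
  refine isQC_of_efam (hw.pullback_fst (pullback.snd f g)) fun k => ?_
  obtain ⟨hk, i, l, hl⟩ := hW k
  have h₁ : IsPullback (pullback.fst (pullback.snd f g) (w k) ≫ pullback.fst f g)
      (pullback.snd (pullback.snd f g) (w k)) f (l ≫ π i) := by
    rw [hl]
    exact ((IsPullback.of_hasPullback _ _).flip.paste_vert (IsPullback.of_hasPullback f g).flip).flip
  let v := (hpb i).lift (pullback.fst (pullback.snd f g) (w k) ≫ pullback.fst f g)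
    (pullback.snd (pullback.snd f g) (w k) ≫ l) (h₁.w.trans (Category.assoc _ _ _).symm)
  refine (qc_iff _).1 (h i) v (pullback.snd (pullback.snd f g) (w k)) l ?_ hk
  refine (IsPullback.of_bot ?_ ((hpb i).lift_snd _ _ _).symm (hpb i).flip).flip
  rw [(hpb i).lift_fst]
  exact h₁.flip

omit [Small.{u} ι] in
lemma isPullback_diagonal_of_isPullback {S : ToposFin.Sh J} {f : S ⟶ X} {Z P : ToposFin.Sh J} {p : P ⟶ S}
    {q : P ⟶ Z} {t : Z ⟶ X} (h : IsPullback p q f t) :
    IsPullback p (pullback.diagonal q) (pullback.diagonal f)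
      (pullback.map q q f f p p t h.w.symm h.w.symm) := by
  refine ⟨⟨?_⟩, ⟨PullbackCone.IsLimit.mk _ (fun s => s.snd ≫ pullback.fst q q) (fun s => ?_) (fun s => ?_) fun s m hm₁ hm₂ => ?_⟩⟩
  · apply pullback.hom_ext <;> simp [pullback.map, pullback.diagonal, pullback.lift_fst, pullback.lift_snd,
      pullback.lift_fst_assoc, pullback.lift_snd_assoc]
  · have := congrArg (· ≫ pullback.fst f f) s.condition
    simpa [pullback.map, pullback.diagonal, pullback.lift_fst] using this.symm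
  · refine pullback.hom_ext (by simp [pullback.diagonal, pullback.lift_fst]) (h.hom_ext ?_ ?_)
    · have h₁ := congrArg (· ≫ pullback.fst f f) s.condition
      have h₂ := congrArg (· ≫ pullback.snd f f) s.condition
      simp [pullback.map, pullback.diagonal, pullback.lift_fst, pullback.lift_snd] at h₁ h₂ ⊢
      exact h₁.symm.trans h₂
    · simp [pullback.diagonal, pullback.lift_snd, pullback.condition]
  · rw [← hm₂]
    simp [pullback.diagonal, pullback.lift_fst]

lemma qs_of_cover (hE : Gen (J := J) ToposFin.IsQC) (hπ : EFam π) {S : ToposFin.Sh J} {f : S ⟶ X}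
    {P : ι → ToposFin.Sh J} {p : ∀ i, P i ⟶ S} {q : ∀ i, P i ⟶ F i} (hpb : ∀ i, IsPullback (p i) (q i) f (π i))
    (h : ∀ i, qs (q i)) : qs f := by
  have hc : EFam fun i => pullback.map (q i) (q i) f f (p i) (p i) (π i) (hpb i).w.symm (hpb i).w.symm := by
    refine (hπ.pullback_fst (pullback.fst f f ≫ f)).of_factor fun i => ⟨i, pullback.lift
      ((hpb i).lift (pullback.fst (pullback.fst f f ≫ f) (π i) ≫ pullback.fst f f) (pullback.snd _ (π i)) (by rw [Category.assoc]; exact pullback.condition))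
      ((hpb i).lift (pullback.fst (pullback.fst f f ≫ f) (π i) ≫ pullback.snd f f) (pullback.snd _ (π i))
        (by rw [Category.assoc, ← pullback.condition (f := f) (g := f)]; exact pullback.condition)) (by simp [IsPullback.lift_snd]), ?_⟩
    apply pullback.hom_ext <;> simp [pullback.map, pullback.lift_fst, pullback.lift_snd, pullback.lift_fst_assoc, pullback.lift_snd_assoc]
  exact qc_of_cover (hc.refinable hE) (fun i => isPullback_diagonal_of_isPullback (hpb i)) h

omit [Small.{u} ι] in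
/-- Morphisms glue along a jointly epimorphic family. -/
lemma exists_desc [HasCoproduct F] (hπ : EFam π) {Z : ToposFin.Sh J} (t : ∀ i, F i ⟶ Z)
    (ht : ∀ i j, pullback.fst (π i) (π j) ≫ t i = pullback.snd (π i) (π j) ≫ t j) :
    ∃ s : X ⟶ Z, ∀ i, π i ≫ s = t i := by
  have : Epi (Sigma.desc π) := (epi_desc_iff π).2 hπ
  have : IsRegularEpi (Sigma.desc π) := IsRegularEpiCategory.regularEpiOfEpi _
  have hι : EFam (Sigma.ι F) := (DisjCover.of_isColimit (Cofan.mk _ (Sigma.ι F)) (coproductIsCoproduct F)).efam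
  refine ⟨EffectiveEpi.desc (Sigma.desc π) (Sigma.desc t) fun {W} g₁ g₂ hg => ?_, fun i => ?_⟩
  · refine (hι.pullback_fst g₁) _ _ _ fun i => ?_
    refine (hι.pullback_fst (pullback.fst g₁ (Sigma.ι F i) ≫ g₂)) _ _ _ fun j => ?_
    set k₁ := pullback.fst g₁ (Sigma.ι F i)
    set k₂ := pullback.fst (k₁ ≫ g₂) (Sigma.ι F j)
    have e₁ : k₂ ≫ k₁ ≫ g₁ = (k₂ ≫ pullback.snd g₁ (Sigma.ι F i)) ≫ Sigma.ι F i := by
      simp [k₁, pullback.condition]
    have e₂ : k₂ ≫ k₁ ≫ g₂ = pullback.snd _ _ ≫ Sigma.ι F j := pullback.condition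
    rw [reassoc_of% e₁, reassoc_of% e₂, Sigma.ι_desc, Sigma.ι_desc]
    have e := congrArg (fun m => k₂ ≫ k₁ ≫ m) hg
    simp only [reassoc_of% e₁, reassoc_of% e₂, Category.assoc, Sigma.ι_desc] at e
    have := congrArg (fun m => pullback.lift (k₂ ≫ pullback.snd g₁ (Sigma.ι F i))
      (pullback.snd (k₁ ≫ g₂) (Sigma.ι F j)) ((Category.assoc _ _ _).trans e) ≫ m) (ht i j)
    simpa [pullback.lift_fst_assoc, pullback.lift_snd_assoc] using this
  · have := congrArg (fun m => Sigma.ι F i ≫ m) (EffectiveEpi.fac (Sigma.desc π) (Sigma.desc t) ?_)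
    simpa using this

end Groth.Agent.ToposFinLib
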