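import Groth.Agent.ToposFinLib.EFam
import Mathlib.CategoryTheory.MorphismProperty.Limits
import Mathlib.Data.Fintype.Card
import Mathlib.Logic.Small.Basic

/-!
# Quasi-compact and quasi-separated objects and morphisms of a topos of sheaves of sets
-/

set_option autoImplicit false

universe u w w'

open CategoryTheory CategoryTheory.Limits Opposite

namespace Groth.Agent.ToposFinLib

variable {C : Type u} [SmallCategory C] {J : GrothendieckTopology C}

local notation "IsQC" => ToposFin.IsQC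

lemma isQC_iff {X : ToposFin.Sh J} : IsQC X ↔ ∀ (ι : Type u) (F : ι → ToposFin.Sh J) (π : ∀ i, F i ⟶ X),
    EFam π → ∃ s : Finset ι, EFam (fun i : s => π i) := by
  simp only [ToposFin.IsQC, epi_desc_iff]

lemma exists_finset {X : ToposFin.Sh J} (hX : IsQC X) {ι : Type w} [Small.{u} ι] {F : ι → ToposFin.Sh J}
    {π : ∀ i, F i ⟶ X} (h : EFam π) : ∃ s : Finset ι, EFam (fun i : s => π i) := by
  classical
  obtain ⟨s, hs⟩ := isQC_iff.1 hX (Shrink.{u} ι) _ _ (h.reindex (equivShrink ι).symm (equivShrink ι).symm.surjective)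
  exact ⟨s.image (equivShrink ι).symm, hs.of_factor fun k =>
    ⟨⟨_, Finset.mem_image_of_mem _ k.2⟩, 𝟙 _, Category.id_comp _⟩⟩

/-- An object covered by finitely many quasi-compact objects is quasi-compact. -/
lemma isQC_of_efam {X : ToposFin.Sh J} {κ : Type w} [Finite κ] {G : κ → ToposFin.Sh J} {ρ : ∀ k, G k ⟶ X}
    (hρ : EFam ρ) (h : ∀ k, IsQC (G k)) : IsQC X := by
  classical
  rw [isQC_iff]
  intro ι F π hπ
  have := fun k => exists_finset (h k) (hπ.pullback_fst (ρ k))
  choose s hs using this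
  let := Fintype.ofFinite κ
  refine ⟨Finset.univ.biUnion s, hρ.refine fun k Z a b hab => hs k Z _ _ fun i => ?_⟩
  dsimp
  rw [pullback.condition_assoc, pullback.condition_assoc,
    hab ⟨i.1, Finset.mem_biUnion.2 ⟨k, Finset.mem_univ _, i.2⟩⟩]

lemma isQC_of_epi {X Y : ToposFin.Sh J} (p : Y ⟶ X) [Epi p] (h : IsQC Y) : IsQC X :=
  isQC_of_efam (EFam.of_epi.{u, 0} p) fun _ => h

lemma isQC_of_iso {X Y : ToposFin.Sh J} (e : Y ≅ X) (h : IsQC Y) : IsQC X := isQC_of_epi e.hom h

lemma isQC_of_isInitial {X : ToposFin.Sh J} (hX : IsInitial X) : IsQC X :=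
  isQC_of_efam (κ := PEmpty.{1}) (G := fun k => k.elim) (ρ := fun k => k.elim) (EFam.of_isInitial hX _) fun k => k.elim

lemma isInitial_of_hom {X Y : ToposFin.Sh J} (f : X ⟶ Y) (hY : IsInitial Y) : Nonempty (IsInitial X) := by
  have := hY.isIso_to f
  exact ⟨hY.ofIso (asIso f).symm⟩

/-! ## Disjoint covers -/

/-- A jointly epimorphic family of pairwise disjoint monomorphisms. -/
structure DisjCover {ι : Type w} {F : ι → ToposFin.Sh J} {X : ToposFin.Sh J} (π : ∀ i, F i ⟶ X) : Prop where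
  efam : EFam π
  mono : ∀ i, Mono (π i)
  disjoint : ∀ i j, i ≠ j → ∀ (W : ToposFin.Sh J) (a : W ⟶ F i) (b : W ⟶ F j),
    a ≫ π i = b ≫ π j → Nonempty (IsInitial W)

namespace DisjCover

variable {ι : Type w} {F : ι → ToposFin.Sh J} {X : ToposFin.Sh J} {π : ∀ i, F i ⟶ X}

lemma of_isColimit (c : Cofan F) (hc : IsColimit c) : DisjCover (fun i => c.inj i) := by
  classical
  let d (i : ι) : c.pt ⟶ F i ⨿ ⊤_ (ToposFin.Sh J) := Cofan.IsColimit.desc hc fun k =>
    if h : k = i then eqToHom (by rw [h]) ≫ coprod.inl else terminal.from _ ≫ coprod.inr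
  have hd : ∀ i, c.inj i ≫ d i = coprod.inl := fun i => by simp [d]
  have hd' : ∀ i j, j ≠ i → c.inj j ≫ d i = terminal.from _ ≫ coprod.inr := fun i j h => by simp [d, h]
  refine ⟨fun Z a b h => Cofan.IsColimit.hom_ext hc _ _ h, fun i => ?_, fun i j hij W a b hab => ?_⟩
  · have hm := MonoCoprod.binaryCofan_inl _ (coprodIsCoprod (F i) (⊤_ (ToposFin.Sh J)))
    have : Mono (coprod.inl : F i ⟶ F i ⨿ ⊤_ (ToposFin.Sh J)) := hm
    exact mono_of_mono_fac (hd i)
  · have hp := FinitaryExtensive.isPullback_initial_to_binaryCofan (coprodIsCoprod (F i) (⊤_ (ToposFin.Sh J)))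
    refine isInitial_of_hom (hp.lift a (b ≫ terminal.from _) ?_) initialIsInitial
    calc a ≫ coprod.inl = a ≫ c.inj i ≫ d i := by rw [hd]
      _ = b ≫ c.inj j ≫ d i := by rw [← Category.assoc, hab, Category.assoc]
      _ = (b ≫ terminal.from _) ≫ coprod.inr := by rw [hd' i j hij.symm, Category.assoc]

lemma baseChange (h : DisjCover π) {Y : ToposFin.Sh J} (g : Y ⟶ X) {P : ι → ToposFin.Sh J}
    {p : ∀ i, P i ⟶ Y} {q : ∀ i, P i ⟶ F i} (hpb : ∀ i, IsPullback (p i) (q i) g (π i)) : DisjCover p := by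
  refine ⟨h.efam.baseChange g hpb, fun i => ?_, fun i j hij W a b hab => ?_⟩
  · have := h.mono i
    refine ⟨fun {W} a b hab => (hpb i).hom_ext hab ?_⟩
    rw [← cancel_mono (π i), Category.assoc, Category.assoc, ← (hpb i).w, ← Category.assoc, hab, Category.assoc]
  · refine h.disjoint i j hij W (a ≫ q i) (b ≫ q j) ?_
    rw [Category.assoc, Category.assoc, ← (hpb i).w, ← (hpb j).w, ← Category.assoc, hab, Category.assoc]

lemma pullback_fst (h : DisjCover π) {Y : ToposFin.Sh J} (g : Y ⟶ X) : DisjCover (fun i => pullback.fst g (π i)) :=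
  h.baseChange g fun i => IsPullback.of_hasPullback g (π i)

lemma isQC_component [Small.{u} ι] (h : DisjCover π) (hX : IsQC X) (i : ι) : IsQC (F i) := by
  classical
  rw [isQC_iff]
  intro κ G ρ hρ
  let H : κ ⊕ {j // j ≠ i} → ToposFin.Sh J := Sum.elim G fun j => F j
  let σ : ∀ k, H k ⟶ X := fun k => match k with
    | Sum.inl k => ρ k ≫ π i
    | Sum.inr j => π j
  have hσ : EFam σ := h.efam.refine fun j Z a b hab => by
    rcases eq_or_ne j i with rfl | hj
    · exact hρ Z _ _ fun k => (Category.assoc _ _ _).symm.trans ((hab (Sum.inl k)).trans (Category.assoc _ _ _))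
    · exact hab (Sum.inr ⟨j, hj⟩)
  obtain ⟨s, hs⟩ := exists_finset hX hσ
  refine ⟨s.toLeft, (hs.pullback_fst (π i)).refine fun k Z a b hab => ?_⟩
  have := h.mono i
  obtain ⟨k | j, hk⟩ := k
  · have e : pullback.fst (π i) (σ (Sum.inl k)) = pullback.snd (π i) (σ (Sum.inl k)) ≫ ρ k := by
      rw [← cancel_mono (π i), pullback.condition, Category.assoc]
    show pullback.fst (π i) (σ (Sum.inl k)) ≫ a = pullback.fst (π i) (σ (Sum.inl k)) ≫ b
    rw [e, Category.assoc, Category.assoc]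
    exact congrArg _ (hab ⟨k, Finset.mem_toLeft.2 hk⟩)
  · exact (h.disjoint i j.1 j.2.symm _ _ _ pullback.condition).some.hom_ext _ _

lemma isQC_iff [Small.{u} ι] (h : DisjCover π) :
    IsQC X ↔ (∀ i, IsQC (F i)) ∧ {i | ¬ Nonempty (IsInitial (F i))}.Finite := by
  classical
  constructor
  · intro hX
    refine ⟨h.isQC_component hX, ?_⟩
    obtain ⟨s, hs⟩ := exists_finset hX h.efam
    refine s.finite_toSet.subset fun i hi => ?_
    by_contra his
    refine hi ((hs.pullback_fst (π i)).isInitial_of_sources_initial fun k => ?_)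
    exact h.disjoint i k.1 (fun e => his (e ▸ k.2)) _ _ _ pullback.condition
  · rintro ⟨hF, hfin⟩
    have := hfin.to_subtype
    refine isQC_of_efam (κ := {i | ¬ Nonempty (IsInitial (F i))}) (ρ := fun i => π i.1) ?_ fun i => hF i.1
    refine h.efam.refine fun i Z a b hab => ?_
    by_cases hi : Nonempty (IsInitial (F i))
    · exact hi.some.hom_ext _ _
    · exact hab ⟨i, hi⟩

end DisjCover

/-! ## Morphisms -/

/-- Quasi-compact morphisms as a morphism property. -/
def qc : MorphismProperty (ToposFin.Sh J) := fun _ _ f => ToposFin.IsQCHom f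

lemma qc_iff {X Y : ToposFin.Sh J} (f : X ⟶ Y) : qc f ↔ ∀ {P Y' : ToposFin.Sh J} (p : P ⟶ X) (q : P ⟶ Y')
    (g : Y' ⟶ Y), IsPullback p q f g → IsQC Y' → IsQC P :=
  ⟨fun h _ Y' _ _ g hpb hY' => isQC_of_iso hpb.isoPullback.symm (h Y' g hY'),
    fun h Y' g hY' => h _ _ g (IsPullback.of_hasPullback f g) hY'⟩

instance : (qc (J := J)).IsMultiplicative where
  id_mem X := by
    rw [qc_iff]
    intro P Y' p q g hpb hY'
    have : IsIso q := hpb.isIso_snd_of_isIso
    exact isQC_of_iso (asIso q).symm hY'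
  comp_mem f g hf hg := by
    rw [qc_iff] at hf hg ⊢
    intro P Y' p q h hpb hY'
    have h₁ := IsPullback.of_hasPullback g h
    let l : P ⟶ pullback g h := pullback.lift (p ≫ f) q (by rw [Category.assoc]; exact hpb.w)
    refine hf p l (pullback.fst g h) ?_ (hg _ _ _ h₁ hY')
    refine IsPullback.of_bot ?_ (pullback.lift_fst _ _ _).symm h₁
    rw [pullback.lift_snd]
    exact hpb

instance : (qc (J := J)).IsStableUnderBaseChange :=
  ⟨fun {X Y Y' S f g f' g'} sq hg => by
    rw [qc_iff] at hg ⊢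
    intro P Z p q h hpb hZ
    exact hg (p ≫ f') q (h ≫ f) (hpb.paste_horiz sq) hZ⟩

instance : (qc (J := J)).RespectsIso := MorphismProperty.IsStableUnderBaseChange.respectsIso

/-- Quasi-separated morphisms as a morphism property. -/
def qs : MorphismProperty (ToposFin.Sh J) := (qc (J := J)).diagonal

lemma qs_def {X Y : ToposFin.Sh J} (f : X ⟶ Y) : qs f ↔ ToposFin.IsQSHom f := Iff.rfl

instance : (qs (J := J)).IsMultiplicative := inferInstanceAs (qc (J := J)).diagonal.IsMultiplicative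

instance : (qs (J := J)).IsStableUnderBaseChange := inferInstanceAs (qc (J := J)).diagonal.IsStableUnderBaseChange

instance : (qs (J := J)).RespectsIso := MorphismProperty.IsStableUnderBaseChange.respectsIso

instance : (qc (J := J)).HasOfPostcompProperty qs :=
  MorphismProperty.hasOfPostcompProperty_iff_le_diagonal.2 le_rfl

lemma qs_of_mono {X Y : ToposFin.Sh J} (f : X ⟶ Y) [Mono f] : qs f := by
  have : IsIso (pullback.diagonal f) := (pullback.isIso_diagonal_iff f).2 inferInstance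
  exact MorphismProperty.of_isIso qc (pullback.diagonal f)

lemma qc_of_comp {X Y Z : ToposFin.Sh J} {f : X ⟶ Y} {g : Y ⟶ Z} (hg : qs g) (h : qc (f ≫ g)) : qc f :=
  MorphismProperty.of_postcomp (W := qc) (W' := qs) f g hg h

lemma qc_of_comp_mono {X Y Z : ToposFin.Sh J} {f : X ⟶ Y} {g : Y ⟶ Z} [Mono g] (h : qc (f ≫ g)) : qc f :=
  qc_of_comp (qs_of_mono g) h

lemma qs_of_comp {X Y Z : ToposFin.Sh J} {f : X ⟶ Y} {g : Y ⟶ Z} (h : qs (f ≫ g)) : qs f := by
  let m : pullback f f ⟶ pullback (f ≫ g) (f ≫ g) :=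
    pullback.map f f (f ≫ g) (f ≫ g) (𝟙 X) (𝟙 X) g (by simp) (by simp)
  have : Mono m := ⟨fun {W} a b hab => pullback.hom_ext
    (by simpa [m, pullback.map, pullback.lift_fst] using congrArg (· ≫ pullback.fst _ _) hab)
    (by simpa [m, pullback.map, pullback.lift_snd] using congrArg (· ≫ pullback.snd _ _) hab)⟩
  have e : pullback.diagonal f ≫ m = pullback.diagonal (f ≫ g) := by apply pullback.hom_ext <;> simp [m, pullback.map, pullback.diagonal, pullback.lift_fst, pullback.lift_snd, pullback.lift_fst_assoc, pullback.lift_snd_assoc]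
  exact qc_of_comp_mono (f := pullback.diagonal f) (g := m) (by rw [e]; exact h)

lemma isQC_of_qc {X Y : ToposFin.Sh J} {f : X ⟶ Y} (hf : qc f) (hY : IsQC Y) : IsQC X :=
  (qc_iff f).1 hf (𝟙 X) f (𝟙 Y) (IsPullback.of_horiz_isIso ⟨by simp⟩) hY

lemma qc_of_isQS {X Y : ToposFin.Sh J} (f : X ⟶ Y) (hX : IsQC X) (hY : ToposFin.IsQS Y) : qc f :=
  fun Z g hZ => hY X Z f g hX hZ

lemma isQS_iff {Y : ToposFin.Sh J} :
    ToposFin.IsQS Y ↔ ∀ (X : ToposFin.Sh J) (f : X ⟶ Y), IsQC X → qc f :=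
  ⟨fun h _ f hX => qc_of_isQS f hX h, fun h X Z a b hX hZ => h X a hX Z b hZ⟩

lemma isQS_of_qs {X Y : ToposFin.Sh J} {f : X ⟶ Y} (hf : qs f) (hY : ToposFin.IsQS Y) : ToposFin.IsQS X := by
  intro A B a b hA hB
  exact isQC_of_qc (qc.of_isPullback (pullback_map_diagonal_isPullback a b f) hf) (hY _ _ _ _ hA hB)

lemma isQS_of_mono {X Y : ToposFin.Sh J} (f : X ⟶ Y) [Mono f] (hY : ToposFin.IsQS Y) : ToposFin.IsQS X :=
  isQS_of_qs (qs_of_mono f) hY

end Groth.Agent.ToposFinLib
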