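import Groth.Agent.ToposFinLib.Local

/-!
# Criteria for quasi-separatedness
-/

set_option autoImplicit false

universe u w

open CategoryTheory CategoryTheory.Limits Opposite

namespace Groth.Agent.ToposFinLib

variable {C : Type u} [SmallCategory C] {J : GrothendieckTopology C}

local notation "IsQC" => ToposFin.IsQC

variable {ι : Type w} [Small.{u} ι] {F : ι → ToposFin.Sh J} {X : ToposFin.Sh J} {π : ∀ i, F i ⟶ X}

omit [Small.{u} ι] in
lemma isQC_pullback_of_qc {S Y : ToposFin.Sh J} {f : S ⟶ X} (hf : qc f) (g : Y ⟶ X) (hY : IsQC Y) :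
    IsQC (pullback f g) := hf Y g hY

omit [Small.{u} ι] in
lemma isQC_pullback_symm {S Y : ToposFin.Sh J} {f : S ⟶ X} {g : Y ⟶ X} (h : IsQC (pullback f g)) :
    IsQC (pullback g f) := isQC_of_iso (pullbackSymmetry f g) h

/-- Quasi-separatedness is local for quasi-compact covers. -/
lemma isQS_of_cover (hE : Gen (J := J) ToposFin.IsQC) (hπ : EFam π) (hF : ∀ i, ToposFin.IsQS (F i))
    (hqc : ∀ i, qc (π i)) : ToposFin.IsQS X :=
  isQS_iff.2 fun A a hA => qc_of_cover (hπ.refinable hE) (p := fun i => pullback.fst a (π i))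
    (q := fun i => pullback.snd a (π i)) (fun i => IsPullback.of_hasPullback a (π i)) fun i =>
      qc_of_isQS _ (isQC_pullback_symm (hqc i A a hA)) (hF i)

/-- A family of morphisms from quasi-separated objects with quasi-compact mutual fibre products. -/
lemma qc_of_pairwise (hE : Gen (J := J) ToposFin.IsQC) (hπ : EFam π) (hF : ∀ i, ToposFin.IsQS (F i))
    (hij : ∀ i j, IsQC (pullback (π i) (π j))) (i : ι) : qc (π i) :=
  qc_of_cover (hπ.refinable hE) (p := fun j => pullback.fst (π i) (π j))
    (q := fun j => pullback.snd (π i) (π j)) (fun j => IsPullback.of_hasPullback (π i) (π j)) fun j =>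
      qc_of_isQS _ (hij i j) (hF j)

omit [Small.{u} ι] in
/-- The family of fibre products of a cover with itself covers the fibre product of the target with itself. -/
lemma efam_pullback_map (hπ : EFam π) {Y : ToposFin.Sh J} (f : X ⟶ Y) :
    EFam (fun q : ι × ι => pullback.map (π q.1 ≫ f) (π q.2 ≫ f) f f (π q.1) (π q.2) (𝟙 Y)
      (Category.comp_id _) (Category.comp_id _)) := by
  refine ((hπ.pullback_fst (pullback.fst f f)).comp fun i =>
    hπ.pullback_fst (pullback.fst (pullback.fst f f) (π i) ≫ pullback.snd f f)).of_factor fun q => ?_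
  obtain ⟨i, j⟩ := q
  refine ⟨(i, j), pullback.lift (pullback.fst (pullback.fst (pullback.fst f f) (π i) ≫ pullback.snd f f) (π j) ≫
    pullback.snd (pullback.fst f f) (π i)) (pullback.snd _ (π j)) ?_, ?_⟩
  · simp only [Category.assoc]
    rw [← pullback.condition_assoc (f := pullback.fst f f) (g := π i), ← pullback.condition_assoc
      (f := pullback.fst (pullback.fst f f) (π i) ≫ pullback.snd f f) (g := π j), Category.assoc, pullback.condition]
  · apply pullback.hom_ext <;>
      simp [pullback.map, pullback.lift_fst, pullback.lift_snd, pullback.lift_fst_assoc, pullback.lift_snd_assoc,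
        pullback.condition, ← pullback.condition_assoc]

/-- Base change of the diagonal of `f` to the fibre product of two covering pieces. -/
lemma qs_of_forall_map {S Y : ToposFin.Sh J} (hE : Gen (J := J) ToposFin.IsQC) {ι : Type w} [Small.{u} ι]
    {F : ι → ToposFin.Sh J} {π : ∀ i, F i ⟶ S} (hπ : EFam π) (f : S ⟶ Y)
    (h : ∀ i j, qc (pullback.map (π i) (π j) (π i ≫ f) (π j ≫ f) (𝟙 (F i)) (𝟙 (F j)) f
      (Category.id_comp _).symm (Category.id_comp _).symm)) : qs f :=
  qc_of_cover ((efam_pullback_map hπ f).refinable hE)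
    (fun q => pullback_map_diagonal_isPullback (π q.1) (π q.2) f) fun q => h q.1 q.2

/-- A morphism whose source has a cover by quasi-compact objects with quasi-separated fibre products over the target is
quasi-separated, if the source is quasi-separated. -/
lemma qs_of_source_cover (hE : Gen (J := J) ToposFin.IsQC) {Y : ToposFin.Sh J} (f : X ⟶ Y) (hπ : EFam π)
    (hqc : ∀ i, IsQC (F i)) (hqs : ∀ i j, ToposFin.IsQS (pullback (π i ≫ f) (π j ≫ f))) (hX : ToposFin.IsQS X) :
    qs f :=
  qs_of_forall_map hE hπ f fun i j => qc_of_isQS _ (hX _ _ _ _ (hqc i) (hqc j)) (hqs i j)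

/-- Any morphism out of a quasi-separated object is quasi-separated, given coherent generators with quasi-separated
products. -/
lemma qs_of_isQS_of_prod {P : ToposFin.Sh J → Prop} (hG : Gen P) (hP : ∀ K, P K → IsQC K)
    (hprod : ∀ K L, P K → P L → ToposFin.IsQS (K ⨯ L)) {Y : ToposFin.Sh J} (f : X ⟶ Y) (hX : ToposFin.IsQS X) :
    qs f := by
  obtain ⟨κ, G, ρ, hρ, hρ'⟩ := hG X
  refine qs_of_source_cover (hG.mono hP) f hρ' (fun i => hP _ (hρ i)) (fun i j => ?_) hX
  let m : pullback (ρ i ≫ f) (ρ j ≫ f) ⟶ G i ⨯ G j := prod.lift (pullback.fst _ _) (pullback.snd _ _)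
  have : Mono m := ⟨fun a b hab => pullback.hom_ext
    (by simpa [m, prod.lift_fst] using congrArg (· ≫ prod.fst) hab)
    (by simpa [m, prod.lift_snd] using congrArg (· ≫ prod.snd) hab)⟩
  exact isQS_of_mono m (hprod _ _ (hρ i) (hρ j))

end Groth.Agent.ToposFinLib
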