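import Groth.Agent.ToposFinLib.Criteria
import Groth.Prelude.Def_ToposFin2

/-!
# Morphisms out of coproducts, algebraic and locally coherent topoi
-/

set_option autoImplicit false

universe u w

open CategoryTheory CategoryTheory.Limits Opposite

namespace Groth.Agent.ToposFinLib

variable {C : Type u} [SmallCategory C] {J : GrothendieckTopology C}

local notation "IsQC" => ToposFin.IsQC

lemma qc_of_initial_source {X Y : ToposFin.Sh J} (f : X ⟶ Y) (hX : IsInitial X) : qc f :=
  fun _ g _ => isQC_of_isInitial (isInitial_of_hom (pullback.fst f g) hX).some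

variable {ι : Type w} [Small.{u} ι] {F : ι → ToposFin.Sh J} {X : ToposFin.Sh J} {π : ∀ i, F i ⟶ X}

omit [Small.{u} ι] in
lemma qc_of_efam_source [Finite ι] (hπ : EFam π) {Y : ToposFin.Sh J} (g : X ⟶ Y) (h : ∀ i, qc (π i ≫ g)) : qc g :=
  fun Z t hZ => isQC_of_efam (hπ.pullback_fst (pullback.fst g t)) fun i => isQC_of_iso
    ((IsPullback.of_hasPullback (pullback.fst g t) (π i)).flip.paste_vert
      (IsPullback.of_hasPullback g t)).isoPullback.symm (h i Z t hZ)

lemma DisjCover.qc_π (hπ : DisjCover π) (i : ι) : qc (π i) := by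
  refine qc_of_cover hπ.refinable (fun j => IsPullback.of_hasPullback (π i) (π j)) fun j => ?_
  by_cases h : i = j
  · subst h
    have := hπ.mono i
    exact MorphismProperty.of_isIso qc _
  · exact qc_of_initial_source _ (hπ.disjoint i j h _ _ _ pullback.condition).some

omit [Small.{u} ι] in
lemma DisjCover.pullback_map (hπ : DisjCover π) {Y : ToposFin.Sh J} (f : X ⟶ Y) :
    DisjCover (fun q : ι × ι => pullback.map (π q.1 ≫ f) (π q.2 ≫ f) f f (π q.1) (π q.2) (𝟙 Y)
      (Category.comp_id _) (Category.comp_id _)) := by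
  refine ⟨efam_pullback_map hπ.efam f, fun q => ?_, fun q r hqr W a b hab => ?_⟩
  · have := hπ.mono q.1
    have := hπ.mono q.2
    exact ⟨fun {W} a b hab => pullback.hom_ext
      ((cancel_mono (π q.1)).1 (by simpa [pullback.map, pullback.lift_fst] using congrArg (· ≫ pullback.fst f f) hab))
      ((cancel_mono (π q.2)).1 (by simpa [pullback.map, pullback.lift_snd] using congrArg (· ≫ pullback.snd f f) hab))⟩
  · have h₁ := congrArg (· ≫ pullback.fst f f) hab
    have h₂ := congrArg (· ≫ pullback.snd f f) hab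
    simp only [Category.assoc, pullback.map, pullback.lift_fst, pullback.lift_snd] at h₁ h₂
    by_cases h : q.1 = r.1
    · exact hπ.disjoint q.2 r.2 (fun h' => hqr (Prod.ext h h')) W (a ≫ pullback.snd _ _) (b ≫ pullback.snd _ _)
        (by simpa only [Category.assoc] using h₂)
    · exact hπ.disjoint q.1 r.1 h W (a ≫ pullback.fst _ _) (b ≫ pullback.fst _ _)
        (by simpa only [Category.assoc] using h₁)

lemma DisjCover.qs_iff (hπ : DisjCover π) {Y : ToposFin.Sh J} (f : X ⟶ Y) :
    qs f ↔ ∀ i, qs (π i ≫ f) := by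
  refine ⟨fun h i => ?_, fun h => ?_⟩
  · have := hπ.mono i
    exact qs.comp_mem _ _ (qs_of_mono _) h
  · refine qc_of_cover (hπ.pullback_map f).refinable
      (fun q => pullback_map_diagonal_isPullback (π q.1) (π q.2) f) fun q => ?_
    obtain ⟨i, j⟩ := q
    by_cases hij : i = j
    · subst hij
      have := hπ.mono i
      have e : pullback.map (π i) (π i) (π i ≫ f) (π i ≫ f) (𝟙 (F i)) (𝟙 (F i)) f (Category.id_comp _).symm
          (Category.id_comp _).symm = pullback.fst (π i) (π i) ≫ pullback.diagonal (π i ≫ f) := by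
        apply pullback.hom_ext <;>
          simp [pullback.map, pullback.diagonal, pullback.lift_fst, pullback.lift_snd, fst_eq_snd_of_mono_eq]
      rw [e]
      exact qc.comp_mem _ _ (MorphismProperty.of_isIso qc _) (h i)
    · exact qc_of_initial_source _ (hπ.disjoint i j hij _ _ _ pullback.condition).some

omit [Small.{u} ι] in
lemma efam_pullback_map₂ (hπ : EFam π) {κ : Type w} {G : κ → ToposFin.Sh J} {S : ToposFin.Sh J} {ρ : ∀ k, G k ⟶ S}
    (hρ : EFam ρ) {Y : ToposFin.Sh J} (f : X ⟶ Y) (g : S ⟶ Y) :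
    EFam (fun q : ι × κ => pullback.map (π q.1 ≫ f) (ρ q.2 ≫ g) f g (π q.1) (ρ q.2) (𝟙 Y)
      (Category.comp_id _) (Category.comp_id _)) := by
  refine ((hπ.pullback_fst (pullback.fst f g)).comp fun i =>
    hρ.pullback_fst (pullback.fst (pullback.fst f g) (π i) ≫ pullback.snd f g)).of_factor fun q => ?_
  obtain ⟨i, j⟩ := q
  refine ⟨(i, j), pullback.lift (pullback.fst (pullback.fst (pullback.fst f g) (π i) ≫ pullback.snd f g) (ρ j) ≫
    pullback.snd (pullback.fst f g) (π i)) (pullback.snd _ (ρ j)) ?_, ?_⟩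
  · simp only [Category.assoc]
    rw [← pullback.condition_assoc (f := pullback.fst f g) (g := π i), ← pullback.condition_assoc
      (f := pullback.fst (pullback.fst f g) (π i) ≫ pullback.snd f g) (g := ρ j), Category.assoc, pullback.condition]
  · apply pullback.hom_ext <;>
      simp [pullback.map, pullback.lift_fst, pullback.lift_snd, pullback.lift_fst_assoc, pullback.lift_snd_assoc,
        pullback.condition]

/-- Quasi-separatedness is tested on fibre products of generators. -/
lemma isQS_of_gen {P : ToposFin.Sh J → Prop} (hG : Gen P) {Y : ToposFin.Sh J}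
    (h : ∀ K L, P K → P L → ∀ (a : K ⟶ Y) (b : L ⟶ Y), IsQC (pullback a b)) : ToposFin.IsQS Y := by
  intro A B a b hA hB
  obtain ⟨n, W, w, hw, hW⟩ := exists_fin_cover' hG hA
  obtain ⟨m, V, v, hv, hV⟩ := exists_fin_cover' hG hB
  exact isQC_of_efam (efam_pullback_map₂ hw hv a b) fun q => h _ _ (hW q.1) (hV q.2) _ _

lemma isCoherent_of_mem {S : Set (ToposFin.Sh J)} (hqc : ∀ K ∈ S, IsQC K) (hgen : ToposFin.IsGenerating S)
    (hpb : ToposFin.ClosedUnderPullbacks S) {K : ToposFin.Sh J} (hK : K ∈ S) : ToposFin.IsCoherent K := by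
  refine ⟨hqc K hK, isQS_of_gen (P := (· ∈ S)) hgen fun A B hA hB a b => ?_⟩
  obtain ⟨P, p, q, hP, hpq⟩ := hpb a b hA hB hK
  exact isQC_of_iso hpq.isoPullback (hqc P hP)

lemma gen_qc_of_isGenerating {S : Set (ToposFin.Sh J)} (hqc : ∀ K ∈ S, IsQC K) (hgen : ToposFin.IsGenerating S) :
    Gen (J := J) ToposFin.IsQC :=
  Gen.mono (P := (· ∈ S)) hgen hqc

lemma isQS_prod_of_mem {S : Set (ToposFin.Sh J)} (hqc : ∀ K ∈ S, IsQC K) (hgen : ToposFin.IsGenerating S)
    (hpb : ToposFin.ClosedUnderPullbacks S) (heq : ToposFin.ClosedUnderEqualizers S) {K L : ToposFin.Sh J}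
    (hK : K ∈ S) (hL : L ∈ S) : ToposFin.IsQS (K ⨯ L) := by
  refine isQS_of_gen (P := (· ∈ S)) hgen fun A B hA hB a b => ?_
  obtain ⟨P, p, q, hP, hpq⟩ := hpb (a ≫ prod.fst) (b ≫ prod.fst) hA hB hK
  obtain ⟨E, e, we, hE, ⟨he⟩⟩ := heq (p ≫ a ≫ prod.snd) (q ≫ b ≫ prod.snd) hP hL
  have w₁ : (e ≫ p) ≫ a = (e ≫ q) ≫ b := by
    apply prod.hom_ext
    · simp only [Category.assoc]; exact congrArg _ hpq.w
    · simpa only [Category.assoc] using we
  have : IsPullback (e ≫ p) (e ≫ q) a b := by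
    refine ⟨⟨w₁⟩, ⟨PullbackCone.IsLimit.mk _ (fun s => Fork.IsLimit.lift he (hpq.lift s.fst s.snd
      (by simp [s.condition_assoc])) (by simp [IsPullback.lift_fst_assoc, IsPullback.lift_snd_assoc, s.condition_assoc]))
      (fun s => ?_) (fun s => ?_) fun s m hm₁ hm₂ => ?_⟩⟩
    · rw [← Category.assoc]
      exact (congrArg (· ≫ p) (Fork.IsLimit.lift_ι' he _ _)).trans (hpq.lift_fst _ _ _)
    · rw [← Category.assoc]
      exact (congrArg (· ≫ q) (Fork.IsLimit.lift_ι' he _ _)).trans (hpq.lift_snd _ _ _)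
    · refine Fork.IsLimit.hom_ext he ?_
      refine Eq.trans ?_ (Fork.IsLimit.lift_ι' he _ _).symm
      exact hpq.hom_ext (by simpa [IsPullback.lift_fst] using hm₁) (by simpa [IsPullback.lift_snd] using hm₂)
  exact isQC_of_iso this.isoPullback (hqc E hE)

/-- In an algebraic topos every morphism out of a quasi-separated object is quasi-separated. -/
lemma qs_of_isQS_of_algebraic (hA : ToposFin.IsAlgebraic J) {X Y : ToposFin.Sh J} (f : X ⟶ Y)
    (hX : ToposFin.IsQS X) : qs f := by
  obtain ⟨S, hqc, hgen, hpb, heq⟩ := hA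
  exact qs_of_isQS_of_prod (P := (· ∈ S)) hgen hqc (fun _ _ => isQS_prod_of_mem hqc hgen hpb heq) f hX

lemma gen_qc_of_algebraic (hA : ToposFin.IsAlgebraic J) : Gen (J := J) ToposFin.IsQC := by
  obtain ⟨S, hqc, hgen, -, -⟩ := hA
  exact gen_qc_of_isGenerating hqc hgen

/-- In a locally coherent topos a morphism from a quasi-separated object to a generator is quasi-separated. -/
lemma qs_of_isQS_to_mem {S : Set (ToposFin.Sh J)} (hqc : ∀ K ∈ S, IsQC K) (hgen : ToposFin.IsGenerating S)
    (hpb : ToposFin.ClosedUnderPullbacks S) {X K : ToposFin.Sh J} (f : X ⟶ K) (hX : ToposFin.IsQS X) (hK : K ∈ S) :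
    qs f := by
  obtain ⟨κ, G, ρ, hρ, hρ'⟩ := hgen X
  refine qs_of_source_cover (gen_qc_of_isGenerating hqc hgen) f hρ' (fun i => hqc _ (hρ i)) (fun i j => ?_) hX
  obtain ⟨P, p, q, hP, hpq⟩ := hpb (ρ i ≫ f) (ρ j ≫ f) (hρ i) (hρ j) hK
  exact isQS_of_mono hpq.isoPullback.inv (isCoherent_of_mem hqc hgen hpb hP).2

end Groth.Agent.ToposFinLib
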