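import Groth.Prelude.Def_SGA4c
import Mathlib.CategoryTheory.Sites.Subsheaf
import Mathlib.CategoryTheory.Sites.LocallySurjective
import Mathlib.CategoryTheory.Sites.EpiMono
import Mathlib.CategoryTheory.Sites.RegularEpi
import Mathlib.CategoryTheory.Sites.LeftExact
import Mathlib.CategoryTheory.Extensive
import Mathlib.CategoryTheory.Limits.Types.Pullbacks

/-!
# Jointly epimorphic families in a topos of sheaves of sets
-/

set_option autoImplicit false

universe u w w'

open CategoryTheory CategoryTheory.Limits Opposite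

namespace Groth.Agent.ToposFinLib

variable {C : Type u} [SmallCategory C] {J : GrothendieckTopology C}

/-- A jointly epimorphic family of morphisms of the topos (any index type). -/
def EFam {ι : Type w} {F : ι → ToposFin.Sh J} {X : ToposFin.Sh J} (π : ∀ i, F i ⟶ X) : Prop :=
  ∀ (Z : ToposFin.Sh J) (a b : X ⟶ Z), (∀ i, π i ≫ a = π i ≫ b) → a = b

section Categorical

variable {ι : Type w} {F : ι → ToposFin.Sh J} {X : ToposFin.Sh J} {π : ∀ i, F i ⟶ X}

lemma epi_desc_iff (π : ∀ i, F i ⟶ X) [HasCoproduct F] : Epi (Sigma.desc π) ↔ EFam π := by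
  constructor
  · intro h Z a b hab
    rw [← cancel_epi (Sigma.desc π)]
    exact Sigma.hom_ext _ _ fun i => by simp [hab i]
  · intro h
    exact ⟨fun a b hab => h _ a b fun i => by rw [← Sigma.ι_desc π i, Category.assoc, Category.assoc, hab]⟩

lemma EFam.of_epi {Y : ToposFin.Sh J} (p : Y ⟶ X) [Epi p] : EFam (fun _ : PUnit.{w + 1} => p) :=
  fun _ _ _ h => (cancel_epi p).1 (h ⟨⟩)

lemma EFam.refine {κ : Type w'} {G : κ → ToposFin.Sh J} {ρ : ∀ k, G k ⟶ X} (h : EFam π)
    (hf : ∀ i, ∀ (Z : ToposFin.Sh J) (a b : X ⟶ Z), (∀ k, ρ k ≫ a = ρ k ≫ b) → π i ≫ a = π i ≫ b) : EFam ρ :=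
  fun Z a b hab => h Z a b fun i => hf i Z a b hab

lemma EFam.of_factor {κ : Type w'} {G : κ → ToposFin.Sh J} {ρ : ∀ k, G k ⟶ X} (h : EFam π)
    (hf : ∀ i, ∃ (k : κ) (l : F i ⟶ G k), l ≫ ρ k = π i) : EFam ρ :=
  h.refine fun i Z a b hab => by
    obtain ⟨k, l, hl⟩ := hf i
    rw [← hl, Category.assoc, Category.assoc, hab]

lemma EFam.comp {κ : ι → Type w'} {G : ∀ i, κ i → ToposFin.Sh J} {ρ : ∀ i k, G i k ⟶ F i} (h : EFam π)
    (hρ : ∀ i, EFam (ρ i)) : EFam (fun q : Σ i, κ i => ρ q.1 q.2 ≫ π q.1) :=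
  h.refine fun i Z a b hab => hρ i Z _ _ fun k => by simpa using hab ⟨i, k⟩

lemma EFam.map {D : Type u} [SmallCategory D] {K : GrothendieckTopology D} {L : ToposFin.Sh J ⥤ ToposFin.Sh K}
    {R : ToposFin.Sh K ⥤ ToposFin.Sh J} (adj : L ⊣ R) (h : EFam π) : EFam (fun i => L.map (π i)) :=
  fun Z a b hab => (adj.homEquiv _ _).injective <| h _ _ _ fun i => by
    rw [← Adjunction.homEquiv_naturality_left, ← Adjunction.homEquiv_naturality_left, hab]

lemma EFam.reindex {κ : Type w'} (e : κ → ι) (he : Function.Surjective e) (h : EFam π) :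
    EFam (fun k => π (e k)) :=
  h.of_factor fun i => by
    obtain ⟨k, rfl⟩ := he i
    exact ⟨k, 𝟙 _, Category.id_comp _⟩

lemma EFam.of_isInitial (hX : IsInitial X) (π : ∀ i, F i ⟶ X) : EFam π :=
  fun _ _ _ _ => hX.hom_ext _ _

/-- An object covered by the empty family is initial. -/
lemma nonempty_isInitial_of_hom_subsingleton (h : ∀ (Z : ToposFin.Sh J) (a b : X ⟶ Z), a = b) :
    Nonempty (IsInitial X) := by
  have hp := FinitaryExtensive.isPullback_initial_to_binaryCofan (coprodIsCoprod X X)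
  obtain ⟨l⟩ : Nonempty (X ⟶ ⊥_ (ToposFin.Sh J)) := ⟨hp.lift (𝟙 X) (𝟙 X) (h _ _ _)⟩
  have : IsIso l := initialIsInitial.isIso_to l
  exact ⟨initialIsInitial.ofIso (asIso l).symm⟩

lemma EFam.isInitial_of_sources_initial (h : EFam π) (hF : ∀ i, Nonempty (IsInitial (F i))) :
    Nonempty (IsInitial X) :=
  nonempty_isInitial_of_hom_subsingleton fun Z a b => h Z a b fun i => (hF i).some.hom_ext _ _

end Categorical

/-! ## Local surjectivity -/

variable {ι : Type w} {F : ι → ToposFin.Sh J} {X : ToposFin.Sh J}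

/-- The arrows along which a section lifts to some member of the family. -/
def famSieve (π : ∀ i, F i ⟶ X) {U : Cᵒᵖ} (x : X.obj.obj U) : Sieve U.unop where
  arrows V f := ∃ (i : ι) (y : (F i).obj.obj (op V)), (π i).hom.app (op V) y = X.obj.map f.op x
  downward_closed := by
    rintro V W f ⟨i, y, hy⟩ g
    refine ⟨i, (F i).obj.map g.op y, ?_⟩
    rw [NatTrans.naturality_apply, hy, op_comp, Functor.map_comp_apply]

lemma efam_iff_famSieve (π : ∀ i, F i ⟶ X) :
    EFam π ↔ ∀ (U : Cᵒᵖ) (x : X.obj.obj U), famSieve π x ∈ J U.unop := by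
  constructor
  · intro h
    let G : Subfunctor X.obj :=
      { obj := fun U => {x | ∃ (i : ι) (y : (F i).obj.obj U), (π i).hom.app U y = x}
        map := by
          rintro U V f x ⟨i, y, rfl⟩
          exact ⟨i, (F i).obj.map f y, NatTrans.naturality_apply (π i).hom f y⟩ }
    have hX := (isSheaf_iff_isSheaf_of_type J X.obj).1 X.property
    let I : ToposFin.Sh J := ⟨(G.sheafify J).toFunctor, (isSheaf_iff_isSheaf_of_type J _).2 (G.sheafify_isSheaf hX)⟩
    let m : I ⟶ X := ⟨(G.sheafify J).ι⟩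
    have : Mono m := by
      refine (sheafToPresheaf J _).mono_of_mono_map (show Mono (G.sheafify J).ι from inferInstance)
    have hl : ∀ i, ∃ l : F i ⟶ I, l ≫ m = π i := fun i =>
      ⟨⟨{ app := fun U => TypeCat.ofHom fun y => (⟨(π i).hom.app U y, G.le_sheafify J U ⟨i, y, rfl⟩⟩ : (G.sheafify J).obj U)
          naturality := fun U V f => by
            ext y
            exact Subtype.ext (NatTrans.naturality_apply (π i).hom f y :) }⟩, rfl⟩
    choose l hl using hl
    have : Epi m := ⟨fun a b hab => h _ a b fun i => by rw [← hl i, Category.assoc, Category.assoc, hab]⟩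
    have : IsIso m := isIso_of_mono_of_epi m
    intro U x
    obtain ⟨z, hz⟩ : ∃ z : I.obj.obj U, m.hom.app U z = x := by
      refine ⟨(inv m).hom.app U x, ?_⟩
      exact ConcreteCategory.congr_hom (congrArg (fun φ : X ⟶ X => φ.hom.app U) (IsIso.inv_hom_id m)) x
    have hz' : G.sieveOfSection z.1 ∈ J U.unop := z.2
    rw [← hz]
    exact J.superset_covering (fun V f hf => hf) hz'
  · intro h Z a b hab
    ext U x
    refine ((isSheaf_iff_isSheaf_of_type J Z.obj).1 Z.property _ (h U x)).isSeparatedFor.ext ?_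
    rintro V f ⟨i, y, hy⟩
    refine (NatTrans.naturality_apply a.hom f.op x).symm.trans ?_
    refine Eq.trans ?_ (NatTrans.naturality_apply b.hom f.op x)
    rw [← hy]
    exact ConcreteCategory.congr_hom (congrArg (fun φ : F i ⟶ Z => φ.hom.app (op V)) (hab i)) y

lemma exists_section_of_isPullback {P A B S : ToposFin.Sh J} {p : P ⟶ A} {q : P ⟶ B} {f : A ⟶ S} {g : B ⟶ S}
    (h : IsPullback p q f g) {U : Cᵒᵖ} (a : A.obj.obj U) (b : B.obj.obj U)
    (e : f.hom.app U a = g.hom.app U b) : ∃ z : P.obj.obj U, p.hom.app U z = a ∧ q.hom.app U z = b :=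
  Types.exists_of_isPullback (h.map (sheafToPresheaf J (Type u) ⋙ (evaluation Cᵒᵖ (Type u)).obj U)) a b e

/-- Jointly epimorphic families are stable under base change. -/
lemma EFam.baseChange {π : ∀ i, F i ⟶ X} (h : EFam π) {Y : ToposFin.Sh J} (g : Y ⟶ X) {P : ι → ToposFin.Sh J}
    {p : ∀ i, P i ⟶ Y} {q : ∀ i, P i ⟶ F i} (hpb : ∀ i, IsPullback (p i) (q i) g (π i)) : EFam p := by
  rw [efam_iff_famSieve] at h ⊢
  intro U y
  refine J.superset_covering ?_ (h U (g.hom.app U y))
  rintro V f ⟨i, z, hz⟩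
  obtain ⟨w, hw, -⟩ := exists_section_of_isPullback (hpb i) (Y.obj.map f.op y) z
    (by rw [hz]; exact NatTrans.naturality_apply g.hom f.op y)
  exact ⟨i, w, hw⟩

lemma EFam.pullback_fst {π : ∀ i, F i ⟶ X} (h : EFam π) {Y : ToposFin.Sh J} (g : Y ⟶ X) :
    EFam (fun i => pullback.fst g (π i)) :=
  h.baseChange g fun i => IsPullback.of_hasPullback g (π i)

lemma EFam.pullback_snd {π : ∀ i, F i ⟶ X} (h : EFam π) {Y : ToposFin.Sh J} (g : Y ⟶ X) :
    EFam (fun i => pullback.snd (π i) g) :=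
  h.baseChange g fun i => (IsPullback.of_hasPullback (π i) g).flip

end Groth.Agent.ToposFinLib
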